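import Groth.Agent.FixedSmooth.Cover
/-!
Basic properties of groups of multiplicative type; base change of splittings.
-/

set_option autoImplicit false
set_option backward.isDefEq.respectTransparency false
set_option backward.isDefEq.respectTransparency.types false
set_option linter.style.haveILetI false

universe u

open CategoryTheory CategoryTheory.Limits MonoidalCategory CartesianMonoidalCategory MonObj AlgebraicGeometry

noncomputable section

namespace Groth.Agent.FixedSmooth

variable {S : Scheme.{u}}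

/-- A property of the structure map read off from split charts. -/
theorem prop_hom_of_charts (P : MorphismProperty Scheme.{u}) [IsZariskiLocalAtTarget P]
    [P.DescendsAlong (@Surjective ⊓ @Flat ⊓ @QuasiCompact)] [P.IsStableUnderBaseChange] (X : Over S)
    {S' : Scheme.{u}} (c : S' ⟶ S) [Flat c]
    (hqc : ∀ V : S.Opens, IsAffineOpen V → ∃ W : S'.Opens, IsCompact (W : Set S') ∧ c.base '' (W : Set S') = (V : Set S))
    (hloc : ∀ s' : S', ∃ U : S'.Opens, s' ∈ U ∧ P (pullback.snd X.hom (U.ι ≫ c))) : P X.hom := by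
  haveI : P.RespectsIso := inferInstance
  refine descend_over P (T := X) (G := Over.mk (𝟙 S)) (Over.homMk X.hom (Category.comp_id _)) c hqc fun s' => ?_
  obtain ⟨U, hU, hP⟩ := hloc s'
  refine ⟨U, hU, fun R q => ?_⟩
  have h1 : P (pullback.snd (pullback.snd X.hom (U.ι ≫ c)) q) := MorphismProperty.pullback_snd _ _ hP
  rw [← MorphismProperty.cancel_left_of_respectsIso P (pullbackLeftPullbackSndIso X.hom (U.ι ≫ c) q).inv] at h1
  rw [pullbackLeftPullbackSndIso_inv_snd_snd] at h1
  let m := ((Over.pullback (q ≫ U.ι ≫ c)).map (Over.homMk X.hom (Category.comp_id _) : X ⟶ Over.mk (𝟙 S))).left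
  show P m
  have hm : m ≫ pullback.snd (𝟙 S) (q ≫ U.ι ≫ c) = pullback.snd X.hom (q ≫ U.ι ≫ c) := pullback.lift_snd _ _ _
  have : IsIso (pullback.snd (𝟙 S) (q ≫ U.ι ≫ c)) := inferInstance
  rw [← MorphismProperty.cancel_right_of_respectsIso P m (pullback.snd (𝟙 S) (q ≫ U.ι ≫ c)), hm]
  exact h1

theorem isAffineHom_DS (U : Scheme.{u}) (M : Type) [AddCommGroup M] : IsAffineHom (Red.DS U M).hom := by
  haveI : IsAffine (Red.diag (ULift.{u} ℤ) M).left := inferInstanceAs (IsAffine (Spec _))
  haveI : IsAffineHom (Red.diag (ULift.{u} ℤ) M).hom := isAffineHom_of_isAffine _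
  exact MorphismProperty.pullback_snd (P := @IsAffineHom) _ _ inferInstance

theorem hom_of_grpIso {U : Scheme.{u}} {A B : Over U} [GrpObj A] [GrpObj B] (e : Grp.mk A ≅ Grp.mk B)
    (P : MorphismProperty Scheme.{u}) [P.RespectsIso] (h : P B.hom) : P A.hom := by
  haveI : IsIso e.hom.hom.hom.left :=
    inferInstanceAs (IsIso ((Over.forget _).mapIso ((Grp.forget _).mapIso e)).hom)
  rw [← Over.w e.hom.hom.hom, MorphismProperty.cancel_left_of_respectsIso P]
  exact h

theorem isAffineHom_of_isMultTypeLoc {H : Over S} [GrpObj H] (hH : WeilClosedLib.IsMultTypeLoc H) :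
    IsAffineHom H.hom := by
  haveI := FpqcDesc.isAffineHom_descends.{u}
  obtain ⟨S', c, hc, -, hqc, hloc⟩ := hH
  haveI := hc
  refine prop_hom_of_charts @IsAffineHom H c hqc fun s' => ?_
  obtain ⟨U, hU, M, _, ⟨e⟩⟩ := hloc s'
  exact ⟨U, hU, hom_of_grpIso (A := Red.bc (U.ι ≫ c) H) e @IsAffineHom (isAffineHom_DS _ M)⟩

theorem locallyOfFinitePresentation_DS (U : Scheme.{u}) (M : Type) [AddCommGroup M] (hM : AddGroup.FG M) :
    LocallyOfFinitePresentation (Red.DS U M).hom := by
  haveI : AddGroup.FG M := hM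
  haveI : LocallyOfFinitePresentation (Red.diag (ULift.{u} ℤ) M).hom := by
    show LocallyOfFinitePresentation (Spec.map (CommRingCat.ofHom
      (algebraMap (ULift.{u} ℤ) (MonoidAlgebra (ULift.{u} ℤ) (Multiplicative M)))))
    rw [HasRingHomProperty.Spec_iff (P := @LocallyOfFinitePresentation)]
    haveI : Algebra.FiniteType (ULift.{u} ℤ) (MonoidAlgebra (ULift.{u} ℤ) (Multiplicative M)) := inferInstance
    haveI : IsNoetherianRing (ULift.{u} ℤ) := isNoetherianRing_of_ringEquiv ℤ ULift.ringEquiv.symm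
    exact RingHom.finitePresentation_algebraMap.mpr
      ((Algebra.FinitePresentation.of_finiteType (R := ULift.{u} ℤ)).mp inferInstance)
  exact MorphismProperty.pullback_snd (P := @LocallyOfFinitePresentation) _ _ inferInstance

theorem locallyOfFinitePresentation_of_isMultTypeFT {H : Over S} [GrpObj H] (hH : SGA3x.IsMultTypeFT H) :
    LocallyOfFinitePresentation H.hom := by
  obtain ⟨S', c, hc, -, hqc, hloc⟩ := hH
  haveI := hc
  refine prop_hom_of_charts @LocallyOfFinitePresentation H c hqc fun s' => ?_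
  obtain ⟨U, hU, M, _, hM, ⟨e⟩⟩ := hloc s'
  exact ⟨U, hU, hom_of_grpIso (A := Red.bc (U.ι ≫ c) H) e @LocallyOfFinitePresentation
    (locallyOfFinitePresentation_DS _ M hM)⟩

/-- Base change of a splitting. -/
def Split.bc {H : Over S} [GrpObj H] {U V T : Scheme.{u}} {b : U ⟶ S} {M : Type} [AddCommGroup M]
    (σ : Split H b M) (t : T ⟶ S) (b' : V ⟶ T) (g : V ⟶ U) (hg : g ≫ b = b' ≫ t) :
    Split (Red.bc t H) b' M where
  pt B q := ((σ.comp g hg).pt B q).trans ((precompEquiv (G := H)
    (Over.isoMk (Iso.refl _) (by simp) : (Over.map t).obj (Over.mk (q ≫ b')) ≅ Over.mk (q ≫ b' ≫ t))).trans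
    (adjEquiv t H (Over.mk (q ≫ b'))))
  nat B B' q f χ := by
    show tr b' q f ≫ (Over.mapPullbackAdj t).homEquiv (Over.mk (q ≫ b')) H (_ ≫ (σ.comp g hg).pt B q χ) =
      (Over.mapPullbackAdj t).homEquiv (Over.mk ((Spec.map f ≫ q) ≫ b')) H
        (_ ≫ (σ.comp g hg).pt B' (Spec.map f ≫ q) _)
    rw [← Adjunction.homEquiv_naturality_left]
    congr 1
    apply Over.OverMorphism.ext
    show Spec.map f ≫ 𝟙 _ ≫ ((σ.comp g hg).pt B q χ).left = 𝟙 _ ≫ ((σ.comp g hg).pt B' _ _).left
    rw [Category.id_comp, Category.id_comp, ← (σ.comp g hg).nat]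
    rfl

/-- Equality of maps is checked on affine test objects. -/
theorem hom_ext_affine {X Y : Over S} (f g : X ⟶ Y)
    (h : ∀ (B : CommRingCat.{u}) (p : Spec B ⟶ S) (w : Over.mk p ⟶ X), w ≫ f = w ≫ g) : f = g := by
  apply Over.OverMorphism.ext
  refine X.left.affineCover.hom_ext _ _ fun i => ?_
  exact congrArg CommaMorphism.left (h _ (X.left.affineCover.f i ≫ X.hom) (Over.homMk (X.left.affineCover.f i) rfl))

end Groth.Agent.FixedSmooth
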