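import Groth.Agent.FixedSmooth.Transporter
import Groth.Agent.FpqcDesc.Basic
/-!
Descending properties of morphisms of relative schemes along an fpqc cover, and common covers.
-/

set_option autoImplicit false
set_option backward.isDefEq.respectTransparency false
set_option backward.isDefEq.respectTransparency.types false
set_option linter.style.haveILetI false

universe u

open CategoryTheory CategoryTheory.Limits MonoidalCategory CartesianMonoidalCategory MonObj AlgebraicGeometry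

noncomputable section

namespace Groth.Agent.FixedSmooth

variable {S : Scheme.{u}}

theorem isPullback_bc {S' : Scheme.{u}} (b : S' ⟶ S) {T G : Over S} (i : T ⟶ G) :
    IsPullback (pullback.fst T.hom b) ((Over.pullback b).map i).left i.left (pullback.fst G.hom b) := by
  refine IsPullback.of_bot ?_ ?_ (IsPullback.of_hasPullback G.hom b)
  · have h1 : ((Over.pullback b).map i).left ≫ pullback.snd G.hom b = pullback.snd T.hom b :=
      pullback.lift_snd _ _ _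
    rw [h1, Over.w i]
    exact IsPullback.of_hasPullback T.hom b
  · exact (pullback.lift_fst _ _ _).symm

/-- A property of a morphism over `S` that holds on the charts of an fpqc cover holds. -/
theorem descend_over (P : MorphismProperty Scheme.{u}) [IsZariskiLocalAtTarget P]
    [P.DescendsAlong (@Surjective ⊓ @Flat ⊓ @QuasiCompact)] {T G : Over S} (i : T ⟶ G)
    {S' : Scheme.{u}} (c : S' ⟶ S) [Flat c]
    (hqc : ∀ V : S.Opens, IsAffineOpen V → ∃ W : S'.Opens, IsCompact (W : Set S') ∧ c.base '' (W : Set S') = (V : Set S))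
    (hloc : ∀ s' : S', ∃ U : S'.Opens, s' ∈ U ∧ ∀ (R : CommRingCat.{u}) (q : Spec R ⟶ U.toScheme),
      P ((Over.pullback (q ≫ U.ι ≫ c)).map i).left) : P i.left := by
  haveI : P.RespectsIso := inferInstance
  refine IsZariskiLocalAtTarget.of_iSup_eq_top (P := P) (fun V : S.affineOpens => G.hom ⁻¹ᵁ V.1) ?_ ?_
  · rw [← Scheme.Hom.preimage_iSup, iSup_affineOpens_eq_top, Scheme.Hom.preimage_top]
  intro V
  obtain ⟨W, hWc, hW⟩ := hqc V.1 V.2
  have hW' : W ≤ c ⁻¹ᵁ V.1 := fun w hw => hW.subset ⟨w, hw, rfl⟩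
  choose O hO hL using hloc
  have hA : ∀ w : W, ∃ A : S'.Opens, IsAffineOpen A ∧ w.1 ∈ A ∧ A ≤ O w.1 ⊓ W := fun w => by
    obtain ⟨A, hA, hwA, hle⟩ := exists_isAffineOpen_mem_and_subset (x := w.1) (U := O w.1 ⊓ W) ⟨hO w.1, w.2⟩
    exact ⟨A, hA, hwA, hle⟩
  choose A hAa hwA hAle using hA
  obtain ⟨t, ht⟩ := hWc.elim_finite_subcover (fun w : W => (A w : Set S')) (fun w => (A w).2)
    fun w hw => Set.mem_iUnion.2 ⟨⟨w, hw⟩, hwA _⟩
  haveI : IsAffine (V.1 : Scheme.{u}) := V.2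
  haveI : ∀ k : t, IsAffine ((A k.1 : Scheme.{u})) := fun k => hAa k.1
  let g : ∀ k : t, (A k.1 : Scheme.{u}) ⟶ (V.1 : Scheme.{u}) := fun k =>
    c.resLE V.1 (A k.1) (((hAle k.1).trans inf_le_right).trans hW')
  have hg : ∀ k, g k ≫ V.1.ι = S'.homOfLE ((hAle k.1).trans inf_le_left) ≫ (O k.1.1).ι ≫ c := fun k => by
    simp [g]
  haveI : Surjective (Sigma.desc g) := ⟨fun v => by
    obtain ⟨z, hzW, hz⟩ := hW.superset v.2
    obtain ⟨k, hk, hzk⟩ := Set.mem_iUnion₂.mp (ht hzW)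
    refine ⟨Sigma.ι (fun k : t => (A k.1 : Scheme.{u})) ⟨k, hk⟩ ⟨z, hzk⟩, V.1.ι.isOpenEmbedding.injective ?_⟩
    erw [← Scheme.Hom.comp_apply, ← Scheme.Hom.comp_apply, Sigma.ι_desc_assoc, hg]
    simp only [← Category.assoc, Scheme.homOfLE_ι]
    exact hz⟩
  haveI : Flat (Sigma.desc g) := by
    haveI : IsZariskiLocalAtSource (@Flat.{u}) :=
      HasRingHomProperty.instIsZariskiLocalAtSource.{u} (Q := RingHom.Flat)
    exact IsZariskiLocalAtSource.sigmaDesc fun k => inferInstance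
  let h : pullback (Sigma.desc g) (G.hom ∣_ V.1) ⟶ (G.hom ⁻¹ᵁ V.1).toScheme := pullback.snd _ _
  refine MorphismProperty.of_pullback_snd_of_descendsAlong (P := P)
    (Q := @Surjective ⊓ @Flat ⊓ @QuasiCompact) (f := i.left ∣_ (G.hom ⁻¹ᵁ V.1)) (g := h)
    ⟨⟨inferInstance, inferInstance⟩, inferInstance⟩ ?_
  rw [IsZariskiLocalAtTarget.iff_of_openCover (P := P)
    ((sigmaOpenCover fun k : t => (A k.1 : Scheme.{u})).pullback₁ (pullback.fst (Sigma.desc g) (G.hom ∣_ V.1)))]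
  intro k
  let 𝒰 := (sigmaOpenCover fun k : t => (A k.1 : Scheme.{u})).pullback₁
    (pullback.fst (Sigma.desc g) (G.hom ∣_ V.1))
  let pA : 𝒰.X k ⟶ (A k.1 : Scheme.{u}) := pullback.snd _ _
  let b := ((A k.1 : Scheme.{u}).isoSpec.inv ≫ S'.homOfLE ((hAle k.1).trans inf_le_left)) ≫ (O k.1.1).ι ≫ c
  -- the piece is the base change of `G`
  have s1 : IsPullback (𝒰.f k ≫ h) pA (G.hom ∣_ V.1) (g k) := by
    have := ((IsPullback.of_hasPullback (pullback.fst (Sigma.desc g) (G.hom ∣_ V.1))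
        (Sigma.ι (fun k : t => (A k.1 : Scheme.{u})) k))).paste_horiz
      (IsPullback.of_hasPullback (Sigma.desc g) (G.hom ∣_ V.1)).flip
    have e : Sigma.ι (fun k : t => (A k.1 : Scheme.{u})) k ≫ Sigma.desc g = g k := Sigma.ι_desc g k
    rw [e] at this
    exact this
  have s2 : IsPullback ((𝒰.f k ≫ h) ≫ (G.hom ⁻¹ᵁ V.1).ι) (pA ≫ (A k.1 : Scheme.{u}).isoSpec.hom) G.hom b := by
    have := s1.paste_horiz (isPullback_morphismRestrict G.hom V.1).flip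
    rw [hg k] at this
    exact this.of_iso (Iso.refl _) (Iso.refl _) (A k.1 : Scheme.{u}).isoSpec (Iso.refl _) (by simp) (by simp)
      (by simp) (by simp [b])
  let e : 𝒰.X k ≅ pullback G.hom b := s2.isoPullback
  have he : e.hom ≫ pullback.fst G.hom b = (𝒰.f k ≫ h) ≫ (G.hom ⁻¹ᵁ V.1).ι := s2.isoPullback_hom_fst
  have q1 : IsPullback (pullback.fst _ _ ≫ pullback.fst _ _ ≫ (i.left ⁻¹ᵁ (G.hom ⁻¹ᵁ V.1)).ι)
      (pullback.snd (pullback.snd (i.left ∣_ (G.hom ⁻¹ᵁ V.1)) h) (𝒰.f k)) i.left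
      (𝒰.f k ≫ h ≫ (G.hom ⁻¹ᵁ V.1).ι) :=
    (IsPullback.of_hasPullback _ _).paste_horiz
      ((IsPullback.of_hasPullback _ _).paste_horiz (isPullback_morphismRestrict i.left (G.hom ⁻¹ᵁ V.1)).flip)
  have q2 : IsPullback (pullback.fst T.hom b) (((Over.pullback b).map i).left ≫ e.inv) i.left
      (𝒰.f k ≫ h ≫ (G.hom ⁻¹ᵁ V.1).ι) :=
    (isPullback_bc b i).of_iso (Iso.refl _) (Iso.refl _) e.symm (Iso.refl _) (by simp) (by simp) (by simp)
      (by
        simp only [Iso.refl_hom, Category.comp_id, Iso.symm_hom]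
        rw [← Category.assoc (𝒰.f k), ← he, Iso.inv_hom_id_assoc])
  show P (pullback.snd (pullback.snd (i.left ∣_ (G.hom ⁻¹ᵁ V.1)) h) (𝒰.f k))
  rw [← q1.isoIsPullback_hom_snd _ _ q2]
  rw [MorphismProperty.cancel_left_of_respectsIso P, MorphismProperty.cancel_right_of_respectsIso P]
  exact hL k.1.1 _ _

/-- Restricting a splitting. -/
def Split.comp {H : Over S} [GrpObj H] {U V : Scheme.{u}} {b : U ⟶ S} {M : Type} [AddCommGroup M]
    (σ : Split H b M) (g : V ⟶ U) {b' : V ⟶ S} (hb : g ≫ b = b') : Split H b' M where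
  pt B q := (σ.pt B (q ≫ g)).trans (precompEquiv (G := H)
    (Over.isoMk (Iso.refl _) (by simp [← hb]) : Over.mk (q ≫ b') ≅ Over.mk ((q ≫ g) ≫ b)))
  nat B B' q f χ := by
    apply Over.OverMorphism.ext
    show Spec.map f ≫ 𝟙 _ ≫ (σ.pt B (q ≫ g) χ).left = 𝟙 _ ≫ (σ.pt B' ((Spec.map f ≫ q) ≫ g) _).left
    rw [Category.id_comp, Category.id_comp]
    have key : ∀ (p p' : Spec B' ⟶ U) (χ' : Multiplicative M →* B'), p = p' →
        (σ.pt B' p χ').left = (σ.pt B' p' χ').left := by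
      rintro p p' χ' rfl; rfl
    rw [key _ _ _ (Category.assoc _ _ _), ← σ.nat]
    rfl

/-- Both groups split on each chart of a common cover. -/
theorem exists_common_cover {H₁ H₂ : Over S} [GrpObj H₁] [GrpObj H₂] (h₁ : WeilClosedLib.IsMultTypeLoc H₁)
    (h₂ : WeilClosedLib.IsMultTypeLoc H₂) :
    ∃ (S' : Scheme.{u}) (c : S' ⟶ S), Flat c ∧
      (∀ V : S.Opens, IsAffineOpen V → ∃ W : S'.Opens, IsCompact (W : Set S') ∧ c.base '' (W : Set S') = (V : Set S)) ∧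
      ∀ s' : S', ∃ U : S'.Opens, s' ∈ U ∧ ∃ (M₁ : Type) (_ : AddCommGroup M₁) (M₂ : Type) (_ : AddCommGroup M₂),
        Nonempty (Split H₁ (U.ι ≫ c) M₁) ∧ Nonempty (Split H₂ (U.ι ≫ c) M₂) := by
  obtain ⟨S₁, c₁, hf₁, -, hq₁, hl₁⟩ := h₁
  obtain ⟨S₂, c₂, hf₂, -, hq₂, hl₂⟩ := h₂
  haveI := hf₁; haveI := hf₂
  refine ⟨pullback c₁ c₂, pullback.fst c₁ c₂ ≫ c₁, inferInstance, fun V hV => ?_, fun p => ?_⟩
  · obtain ⟨W₁, hW₁c, hW₁⟩ := hq₁ V hV
    obtain ⟨W₂, hW₂c, hW₂⟩ := hq₂ V hV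
    have e₁ : W₁ ≤ c₁ ⁻¹ᵁ V := fun w hw => hW₁.subset ⟨w, hw, rfl⟩
    have e₂ : W₂ ≤ c₂ ⁻¹ᵁ V := fun w hw => hW₂.subset ⟨w, hw, rfl⟩
    haveI : IsAffine V.toScheme := hV
    haveI : CompactSpace W₁.toScheme := isCompact_iff_compactSpace.mp hW₁c
    haveI : CompactSpace W₂.toScheme := isCompact_iff_compactSpace.mp hW₂c
    haveI : QuasiCompact (c₁.resLE V W₁ e₁) := (quasiCompact_iff_compactSpace _).mpr inferInstance
    let m := pullback.map (c₁.resLE V W₁ e₁) (c₂.resLE V W₂ e₂) c₁ c₂ W₁.ι W₂.ι V.ι (by simp) (by simp)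
    refine ⟨pullback.fst c₁ c₂ ⁻¹ᵁ W₁ ⊓ pullback.snd c₁ c₂ ⁻¹ᵁ W₂, ?_, ?_⟩
    · have : ((pullback.fst c₁ c₂ ⁻¹ᵁ W₁ ⊓ pullback.snd c₁ c₂ ⁻¹ᵁ W₂ : (pullback c₁ c₂).Opens) :
          Set ↥(pullback c₁ c₂)) = Set.range m := by
        rw [Scheme.Pullback.range_map, Scheme.Opens.range_ι, Scheme.Opens.range_ι]
        rfl
      rw [this]
      exact isCompact_range m.continuous
    · apply le_antisymm
      · rintro _ ⟨z, hz, rfl⟩
        exact hW₁.subset ⟨_, hz.1, rfl⟩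
      · intro v hv
        obtain ⟨w₁, hw₁, rfl⟩ := hW₁.superset hv
        obtain ⟨w₂, hw₂, e⟩ := hW₂.superset hv
        obtain ⟨z, hz₁, hz₂⟩ := Scheme.Pullback.exists_preimage_pullback w₁ w₂ e.symm
        refine ⟨z, ⟨?_, ?_⟩, ?_⟩
        · show pullback.fst c₁ c₂ z ∈ W₁
          rwa [hz₁]
        · show pullback.snd c₁ c₂ z ∈ W₂
          rwa [hz₂]
        · show (pullback.fst c₁ c₂ ≫ c₁) z = c₁ w₁
          rw [Scheme.Hom.comp_apply, hz₁]
  · obtain ⟨U₁, hU₁, M₁, i₁, ⟨e₁⟩⟩ := hl₁ (pullback.fst c₁ c₂ p)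
    obtain ⟨U₂, hU₂, M₂, i₂, ⟨e₂⟩⟩ := hl₂ (pullback.snd c₁ c₂ p)
    obtain ⟨σ₁⟩ := exists_split (U₁.ι ≫ c₁) M₁ e₁
    obtain ⟨σ₂⟩ := exists_split (U₂.ι ≫ c₂) M₂ e₂
    refine ⟨pullback.fst c₁ c₂ ⁻¹ᵁ U₁ ⊓ pullback.snd c₁ c₂ ⁻¹ᵁ U₂, ⟨hU₁, hU₂⟩, M₁, i₁, M₂, i₂, ?_, ?_⟩
    · exact ⟨σ₁.comp ((pullback.fst c₁ c₂).resLE U₁ _ inf_le_left) (by simp)⟩
    · exact ⟨σ₂.comp ((pullback.snd c₁ c₂).resLE U₂ _ inf_le_right) (by simp [pullback.condition])⟩

end Groth.Agent.FixedSmooth
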