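import Groth.Agent.FixedSmooth.ClosedMono
/-!
Transporters and normalisers of subgroups of multiplicative type are closed and smooth.
-/

set_option autoImplicit false
set_option backward.isDefEq.respectTransparency false
set_option backward.isDefEq.respectTransparency.types false
set_option linter.style.haveILetI false

universe u

open CategoryTheory CategoryTheory.Limits MonoidalCategory CartesianMonoidalCategory MonObj AlgebraicGeometry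

noncomputable section

namespace Groth.Agent.FixedSmooth

open WeilClosedLib

variable {S : Scheme.{u}} {H₁ H₂ G : Over S} [GrpObj H₁] [GrpObj H₂] [GrpObj G]

theorem Contain.comp {X Y : Over S} {i₁ : H₁ ⟶ G} {i₂ : H₂ ⟶ G} {x : X ⟶ G} (k : Y ⟶ X) (h : Contain i₁ i₂ x) :
    Contain i₁ i₂ (k ≫ x) := fun X' s h₁ => by
  simpa using h X' (s ≫ k) h₁

theorem adjEquiv_comp {T : Scheme.{u}} (t : T ⟶ S) {A : Over S} [GrpObj A] (i : A ⟶ G) {Y : Over T}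
    (y : (Over.map t).obj Y ⟶ A) :
    adjEquiv t G Y (y ≫ i) = adjEquiv t A Y y ≫ (Over.pullback t).map i :=
  Adjunction.homEquiv_naturality_right _ y i

theorem adjEquiv_nat {T : Scheme.{u}} (t : T ⟶ S) {X Y : Over T} (s : Y ⟶ X) (x : (Over.map t).obj X ⟶ G) :
    adjEquiv t G Y ((Over.map t).map s ≫ x) = s ≫ adjEquiv t G X x :=
  Adjunction.homEquiv_naturality_left _ s x

theorem contain_adj {T : Scheme.{u}} (t : T ⟶ S) {X : Over T} (i₁ : H₁ ⟶ G) (i₂ : H₂ ⟶ G)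
    (x : (Over.map t).obj X ⟶ G) (h : Contain i₁ i₂ x) :
    Contain (H₁ := Red.bc t H₁) (H₂ := Red.bc t H₂) ((Over.pullback t).map i₁) ((Over.pullback t).map i₂)
      (adjEquiv t G X x) := fun Y s h₁ => by
  obtain ⟨h₁, rfl⟩ := (adjEquiv t H₁ Y).surjective h₁
  obtain ⟨h₂, e⟩ := h _ ((Over.map t).map s) h₁
  refine ⟨adjEquiv t H₂ Y h₂, ?_⟩
  rw [← adjEquiv_comp, ← adjEquiv_comp, ← adjEquiv_nat, ← e, map_mul, map_mul, map_inv]

theorem contain_of_adj {T : Scheme.{u}} (t : T ⟶ S) {X : Over T} (i₁ : H₁ ⟶ G) (i₂ : H₂ ⟶ G)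
    (x : (Over.map t).obj X ⟶ G)
    (h : Contain (H₁ := Red.bc t H₁) (H₂ := Red.bc t H₂) ((Over.pullback t).map i₁) ((Over.pullback t).map i₂)
      (adjEquiv t G X x)) : Contain i₁ i₂ x := fun X' s h₁ => by
  let Y : Over T := Over.mk (s.left ≫ X.hom)
  let io : (Over.map t).obj Y ≅ X' := Over.isoMk (Iso.refl _) (by
    show 𝟙 _ ≫ X'.hom = (s.left ≫ X.hom) ≫ t
    rw [Category.id_comp, Category.assoc]
    exact (Over.w s).symm)
  let s' : Y ⟶ X := Over.homMk s.left rfl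
  have hs : (Over.map t).map s' = io.hom ≫ s := Over.OverMorphism.ext (Category.id_comp _).symm
  obtain ⟨h₂, e⟩ := h Y s' (adjEquiv t H₁ Y (io.hom ≫ h₁))
  obtain ⟨h₂, rfl⟩ := (adjEquiv t H₂ Y).surjective h₂
  rw [← adjEquiv_comp, ← adjEquiv_comp, ← adjEquiv_nat, ← map_inv, ← map_mul, ← map_mul] at e
  have e' := (adjEquiv t G Y).injective e
  refine ⟨io.inv ≫ h₂, ?_⟩
  rw [Category.assoc, ← e', hs]
  simp [MonObj.comp_mul, GrpObj.comp_inv]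

variable [IsAffineHom G.hom] [Smooth G.hom]

/-- Containment points lift along square-zero thickenings over a chart where both groups split. -/
theorem exists_contain_lift_chart {U : Scheme.{u}} {b : U ⟶ S} {M₁ M₂ : Type} [AddCommGroup M₁] [AddCommGroup M₂]
    (σ₁ : Split H₁ b M₁) (σ₂ : Split H₂ b M₂) [IsAffineHom H₁.hom]
    (i₁ : H₁ ⟶ G) [IsMonHom i₁] [Mono i₁] (i₂ : H₂ ⟶ G) [IsMonHom i₂] [Mono i₂]
    (B : CommRingCat.{u}) (q : Spec B ⟶ U) (N : Ideal B) (hN : N ^ 2 = ⊥)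
    (x₀ : Over.mk ((Spec.map (CommRingCat.ofHom (Ideal.Quotient.mk N)) ≫ q) ≫ b) ⟶ G) (h₀ : Contain i₁ i₂ x₀) :
    ∃ x : Over.mk (q ≫ b) ⟶ G, Contain i₁ i₂ x ∧ (Contain i₂ i₁ x₀⁻¹ → Contain i₂ i₁ x⁻¹) ∧
      tr b q (CommRingCat.ofHom (Ideal.Quotient.mk N)) ≫ x = x₀ := by
  let t := q ≫ b
  let π := CommRingCat.ofHom (Ideal.Quotient.mk N)
  haveI : IsAffineHom (Red.bc t H₁).hom := MorphismProperty.pullback_snd (P := @IsAffineHom) _ _ ‹IsAffineHom H₁.hom›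
  haveI : IsAffine (Red.bc t H₁).left := isAffine_of_isAffineHom (Red.bc t H₁).hom
  haveI : IsAffineHom (Red.bc t G).hom := MorphismProperty.pullback_snd (P := @IsAffineHom) _ _ ‹IsAffineHom G.hom›
  haveI : Smooth (Red.bc t G).hom := MorphismProperty.pullback_snd (P := @Smooth) _ _ ‹Smooth G.hom›
  let io₀ : (Over.map t).obj (pr π) ≅ Over.mk ((Spec.map π ≫ q) ≫ b) := Over.isoMk (Iso.refl _) (by simp [t])
  let io : (Over.map t).obj (pr (𝟙 B)) ≅ Over.mk (q ≫ b) := Over.isoMk (Iso.refl _) (by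
    show 𝟙 _ ≫ q ≫ b = Spec.map (𝟙 B) ≫ t
    rw [Spec.map_id])
  obtain ⟨x', hx', hx'', hxx⟩ := exists_contain_lift (H₁ := Red.bc t H₁) (H₂ := Red.bc t H₂) (G := Red.bc t G)
    (σ₁.bc t (𝟙 _) q (by simp [t])) (σ₂.bc t (𝟙 _) q (by simp [t]))
    ((Over.pullback t).map i₁) ((Over.pullback t).map i₂) N hN (adjEquiv t G (pr π) (io₀.hom ≫ x₀))
    (contain_adj t i₁ i₂ _ (h₀.comp io₀.hom))
  obtain ⟨x, rfl⟩ := (adjEquiv t G (pr (𝟙 B))).surjective x'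
  refine ⟨io.inv ≫ x, (contain_of_adj t i₁ i₂ x hx').comp _, fun h => ?_, ?_⟩
  · rw [← GrpObj.comp_inv]
    refine Contain.comp _ (contain_of_adj t i₂ i₁ x⁻¹ ?_)
    rw [map_inv]
    refine hx'' ?_
    rw [← map_inv, ← GrpObj.comp_inv]
    exact contain_adj t i₂ i₁ _ (h.comp io₀.hom)
  · rw [← adjEquiv_nat] at hxx
    have e := congrArg CommaMorphism.left ((adjEquiv t G (pr π)).injective hxx)
    apply Over.OverMorphism.ext
    show Spec.map π ≫ 𝟙 _ ≫ x.left = x₀.left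
    rw [Category.id_comp]
    exact e.trans (Category.id_comp _)

/-- The transporter of `H₁` into `H₂`, by containment, is closed and smooth. -/
theorem exists_smooth_containment (h₁ : IsMultTypeLoc H₁) (h₂ : IsMultTypeLoc H₂)
    (hl₂ : LocallyOfFinitePresentation H₂.hom)
    (i₁ : H₁ ⟶ G) [IsMonHom i₁] [Mono i₁] (i₂ : H₂ ⟶ G) [IsMonHom i₂] [Mono i₂] :
    ∃ (T : Over S) (j : T ⟶ G), IsClosedImmersion j.left ∧ Smooth T.hom ∧
      ∀ (X : Over S) (g : X ⟶ G), (∃ z : X ⟶ T, z ≫ j = g) ↔ Contain i₁ i₂ g := by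
  haveI := isClosedImmersion_of_isMultTypeLoc h₂ i₂
  haveI := isAffineHom_of_isMultTypeLoc h₁
  haveI : LocallyOfFinitePresentation i₂.left := by
    haveI : LocallyOfFinitePresentation (i₂.left ≫ G.hom) := by rw [Over.w]; exact hl₂
    exact FlatLocus.locallyOfFinitePresentation_of_comp i₂.left G.hom
  obtain ⟨T, j, hj, hrep, hl⟩ := exists_transporter_into (isEssentiallyFree_of_isMultTypeLoc H₁ h₁) i₁ i₂
  haveI := hl (quasiCompact_of_isMultTypeLoc H₁ h₁) inferInstance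
  haveI : IsAffineHom T.hom := by rw [← Over.w j]; infer_instance
  haveI : LocallyOfFinitePresentation T.hom := by rw [← Over.w j]; infer_instance
  obtain ⟨S', c, hc, hqc, hloc⟩ := exists_common_cover h₁ h₂
  haveI := hc
  refine ⟨T, j, hj, smooth_of_locally_lifts T.hom c hqc fun s' => ?_, hrep⟩
  obtain ⟨U, hU, M₁, _, M₂, _, ⟨σ₁⟩, ⟨σ₂⟩⟩ := hloc s'
  refine ⟨U, hU, fun B q N hN z hz => ?_⟩
  let z₀ : Over.mk ((Spec.map (CommRingCat.ofHom (Ideal.Quotient.mk N)) ≫ q) ≫ U.ι ≫ c) ⟶ T := Over.homMk z hz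
  obtain ⟨x, hx, -, hxx⟩ := exists_contain_lift_chart σ₁ σ₂ i₁ i₂ B q N hN (z₀ ≫ j) ((hrep _ _).1 ⟨z₀, rfl⟩)
  obtain ⟨w, hw⟩ := (hrep _ x).2 hx
  refine ⟨w.left, Over.w w, ?_⟩
  rw [← cancel_mono j.left, Category.assoc]
  have := congrArg CommaMorphism.left hxx
  rw [← hw] at this
  exact this

/-- The transporter of `H₁` onto `H₂` is closed and smooth. -/
theorem exists_smooth_conj (h₁ : IsMultTypeLoc H₁) (h₂ : IsMultTypeLoc H₂)
    (hl₁ : LocallyOfFinitePresentation H₁.hom) (hl₂ : LocallyOfFinitePresentation H₂.hom)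
    (i₁ : H₁ ⟶ G) [IsMonHom i₁] [Mono i₁] (i₂ : H₂ ⟶ G) [IsMonHom i₂] [Mono i₂] :
    ∃ (T : Over S) (j : T ⟶ G), IsClosedImmersion j.left ∧ Smooth T.hom ∧
      ∀ (X : Over S) (g : X ⟶ G), (∃ z : X ⟶ T, z ≫ j = g) ↔ Contain i₁ i₂ g ∧ Contain i₂ i₁ g⁻¹ := by
  haveI := isAffineHom_of_isMultTypeLoc h₁
  obtain ⟨C₁, c₁, hc₁, hs₁, hr₁⟩ := exists_smooth_containment h₁ h₂ hl₂ i₁ i₂
  obtain ⟨C₂, c₂, hc₂, hs₂, hr₂⟩ := exists_smooth_containment h₂ h₁ hl₁ i₂ i₁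
  obtain ⟨E, k, hk, hkl, hE⟩ := exists_closed_preimage c₁⁻¹ c₂
  haveI : LocallyOfFinitePresentation c₂.left := by
    haveI : LocallyOfFinitePresentation (c₂.left ≫ G.hom) := by rw [Over.w]; infer_instance
    exact FlatLocus.locallyOfFinitePresentation_of_comp c₂.left G.hom
  haveI := hkl inferInstance
  haveI : IsClosedImmersion (k ≫ c₁).left := inferInstanceAs (IsClosedImmersion (k.left ≫ c₁.left))
  haveI : LocallyOfFinitePresentation E.hom := by rw [← Over.w k]; infer_instance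
  haveI : IsAffineHom E.hom := by rw [← Over.w (k ≫ c₁)]; infer_instance
  have hrep : ∀ (X : Over S) (g : X ⟶ G), (∃ z : X ⟶ E, z ≫ k ≫ c₁ = g) ↔
      Contain i₁ i₂ g ∧ Contain i₂ i₁ g⁻¹ := fun X g => by
    constructor
    · rintro ⟨z, rfl⟩
      obtain ⟨m, hm⟩ := (hE X (z ≫ k)).1 ⟨z, rfl⟩
      rw [GrpObj.comp_inv, Category.assoc] at hm
      exact ⟨(hr₁ X _).1 ⟨z ≫ k, Category.assoc _ _ _⟩, (hr₂ X _).1 ⟨m, hm.symm⟩⟩
    · rintro ⟨hg, hg'⟩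
      obtain ⟨z, rfl⟩ := (hr₁ X g).2 hg
      obtain ⟨m, hm⟩ := (hr₂ X _).2 hg'
      obtain ⟨l, hl⟩ := (hE X z).2 ⟨m, by rw [GrpObj.comp_inv, hm]⟩
      exact ⟨l, by rw [← Category.assoc, hl]⟩
  obtain ⟨S', c, hc, hqc, hloc⟩ := exists_common_cover h₁ h₂
  haveI := hc
  refine ⟨E, k ≫ c₁, inferInstance, smooth_of_locally_lifts E.hom c hqc fun s' => ?_, hrep⟩
  obtain ⟨U, hU, M₁, _, M₂, _, ⟨σ₁⟩, ⟨σ₂⟩⟩ := hloc s'
  refine ⟨U, hU, fun B q N hN z hz => ?_⟩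
  let z₀ : Over.mk ((Spec.map (CommRingCat.ofHom (Ideal.Quotient.mk N)) ≫ q) ≫ U.ι ≫ c) ⟶ E := Over.homMk z hz
  obtain ⟨g₁, g₂⟩ := (hrep _ (z₀ ≫ k ≫ c₁)).1 ⟨z₀, rfl⟩
  obtain ⟨x, hx, hx', hxx⟩ := exists_contain_lift_chart σ₁ σ₂ i₁ i₂ B q N hN (z₀ ≫ k ≫ c₁) g₁
  obtain ⟨w, hw⟩ := (hrep _ x).2 ⟨hx, hx' g₂⟩
  refine ⟨w.left, Over.w w, ?_⟩
  rw [← cancel_mono (k ≫ c₁).left, Category.assoc]
  have := congrArg CommaMorphism.left hxx
  rw [← hw] at this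
  exact this

theorem contain_pair_iff (i₁ : H₁ ⟶ G) (i₂ : H₂ ⟶ G) {X : Over S} (g : X ⟶ G) :
    (Contain i₁ i₂ g ∧ Contain i₂ i₁ g⁻¹) ↔ ∀ (X' : Over S) (x : X' ⟶ X),
      (∀ h₁ : X' ⟶ H₁, ∃ h₂ : X' ⟶ H₂, (x ≫ g) * (h₁ ≫ i₁) * (x ≫ g)⁻¹ = h₂ ≫ i₂) ∧
      (∀ h₂ : X' ⟶ H₂, ∃ h₁ : X' ⟶ H₁, (x ≫ g)⁻¹ * (h₂ ≫ i₂) * (x ≫ g) = h₁ ≫ i₁) :=
  ⟨fun ⟨a, b⟩ X' x => ⟨fun h => a X' x h, fun h => by simpa [GrpObj.comp_inv] using b X' x h⟩,
    fun h => ⟨fun X' x h₁ => (h X' x).1 h₁, fun X' x h₂ => by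
      simpa [GrpObj.comp_inv] using (h X' x).2 h₂⟩⟩

/-- The normaliser of a subgroup of multiplicative type is a closed smooth subgroup. -/
theorem exists_smooth_normalizer {H : Over S} [GrpObj H] (hH : IsMultTypeLoc H)
    (hl : LocallyOfFinitePresentation H.hom) (i : H ⟶ G) [IsMonHom i] [Mono i] :
    ∃ (N : Over S) (_ : GrpObj N) (j : N ⟶ G), Red.IsNormalizerOf i j ∧ IsClosedImmersion j.left ∧ Smooth N.hom := by
  obtain ⟨N, j, hj, hs, hrep⟩ := exists_smooth_conj hH hH hl hl i i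
  have key : ∀ (X : Over S) (g : X ⟶ G), (∃ z : X ⟶ N, z ≫ j = g) ↔
      ∀ (X' : Over S) (x : X' ⟶ X) (h : X' ⟶ H),
        (∃ h' : X' ⟶ H, (x ≫ g) * (h ≫ i) * (x ≫ g)⁻¹ = h' ≫ i) ∧
        (∃ h' : X' ⟶ H, (x ≫ g)⁻¹ * (h ≫ i) * (x ≫ g) = h' ≫ i) := fun X g =>
    (hrep X g).trans ((contain_pair_iff i i g).trans
      ⟨fun h X' x h₁ => ⟨(h X' x).1 h₁, (h X' x).2 h₁⟩,
        fun h X' x => ⟨fun h₁ => (h X' x h₁).1, fun h₁ => (h X' x h₁).2⟩⟩)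
  haveI : Mono j := ⟨fun a b e => Over.OverMorphism.ext ((cancel_mono j.left).1 (congrArg CommaMorphism.left e))⟩
  obtain ⟨str, hmon⟩ := exists_grpObj_of_closed j
    ((key _ η[G]).2 fun X' x h => by
      have e : x ≫ η[G] = 1 := by rw [Hom.one_def, toUnit_unique x (toUnit _)]
      exact ⟨⟨h, by simp [e]⟩, ⟨h, by simp [e]⟩⟩)
    (fun W a b => (key W ((a ≫ j) * (b ≫ j))).2 fun S'' s x => by
      have qa := (key W (a ≫ j)).1 ⟨a, rfl⟩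
      have qb := (key W (b ≫ j)).1 ⟨b, rfl⟩
      refine ⟨?_, ?_⟩
      · obtain ⟨x₁, h₁⟩ := (qb S'' s x).1
        obtain ⟨x₂, h₂⟩ := (qa S'' s x₁).1
        refine ⟨x₂, ?_⟩
        rw [← h₂, ← h₁, MonObj.comp_mul]
        group
      · obtain ⟨x₁, h₁⟩ := (qa S'' s x).2
        obtain ⟨x₂, h₂⟩ := (qb S'' s x₁).2
        refine ⟨x₂, ?_⟩
        rw [← h₂, ← h₁, MonObj.comp_mul]
        group)
    (fun W a => (key W (a ≫ j)⁻¹).2 fun S'' s x => by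
      have qa := (key W (a ≫ j)).1 ⟨a, rfl⟩
      simp only [GrpObj.comp_inv, inv_inv]
      exact ⟨(qa S'' s x).2, (qa S'' s x).1⟩)
  exact ⟨N, str, j, ⟨hmon, inferInstance, key⟩, hj, hs⟩

end Groth.Agent.FixedSmooth
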