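import Groth.Prelude.Def_Red
import Mathlib
/-!
Points of diagonalisable groups.
-/

set_option autoImplicit false
set_option backward.isDefEq.respectTransparency false
set_option backward.isDefEq.respectTransparency.types false
set_option linter.style.haveILetI false

universe u

open CategoryTheory CategoryTheory.Limits MonoidalCategory CartesianMonoidalCategory MonObj AlgebraicGeometry

noncomputable section

namespace Groth.Agent.FixedSmooth

variable {S : Scheme.{u}}

/-- Precomposition with an isomorphism, on points. -/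
def precompEquiv {C : Type*} [Category C] [CartesianMonoidalCategory C] {X X' G : C} [GrpObj G] (e : X' ≅ X) :
    (X ⟶ G) ≃* (X' ⟶ G) where
  toFun k := e.hom ≫ k
  invFun k := e.inv ≫ k
  left_inv k := by simp
  right_inv k := by simp
  map_mul' a b := MonObj.comp_mul _ _ _

/-- Points of a base change. -/
def adjEquiv {S' : Scheme.{u}} (g : S' ⟶ S) (H : Over S) [GrpObj H] (X : Over S') :
    ((Over.map g).obj X ⟶ H) ≃* (X ⟶ Red.bc g H) where
  toFun := (Over.mapPullbackAdj g).homEquiv X H
  invFun := ((Over.mapPullbackAdj g).homEquiv X H).symm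
  left_inv := Equiv.left_inv _
  right_inv := Equiv.right_inv _
  map_mul' a b := by
    simp only [Adjunction.homEquiv_unit]
    erw [Functor.map_mul, MonObj.comp_mul]

/-- Postcomposition with an isomorphism of groups, on points. -/
def grpEquiv {C : Type*} [Category C] [CartesianMonoidalCategory C] {G G' : C} [GrpObj G] [GrpObj G']
    (e : Grp.mk G ≅ Grp.mk G') (X : C) : (X ⟶ G) ≃* (X ⟶ G') where
  toFun k := k ≫ e.hom.hom.hom
  invFun k := k ≫ e.inv.hom.hom
  left_inv k := by
    dsimp only
    rw [Category.assoc]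
    have : e.hom.hom.hom ≫ e.inv.hom.hom = 𝟙 G := congrArg (fun m => m.hom.hom) e.hom_inv_id
    rw [this, Category.comp_id]
  right_inv k := by
    dsimp only
    rw [Category.assoc]
    have : e.inv.hom.hom ≫ e.hom.hom.hom = 𝟙 G' := congrArg (fun m => m.hom.hom) e.inv_hom_id
    rw [this, Category.comp_id]
  map_mul' a b := by
    haveI : IsMonHom e.hom.hom.hom := e.hom.hom.isMonHom_hom
    exact MonObj.mul_comp _ _ _

/-- Characters and points of a diagonalisable group over an affine base. -/
def diagPt (R : Type u) [CommRing R] (M : Type) [AddCommGroup M] (B : CommRingCat.{u}) [Algebra R B] :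
    (Multiplicative M →* B) ≃*
      ((Spec B).asOver (Spec (CommRingCat.of R)) ⟶ Red.diag R M) :=
  MulEquiv.trans
    { toFun := fun χ => WithConv.toConv (MonoidAlgebra.lift R B (Multiplicative M) χ)
      invFun := fun φ => (MonoidAlgebra.lift R B (Multiplicative M)).symm φ.ofConv
      left_inv := fun χ => by simp
      right_inv := fun φ => by simp
      map_mul' := fun χ χ' => by
        apply WithConv.ofConv_injective
        apply MonoidAlgebra.algHom_ext
        · intro m
          simp [AlgHom.convMul_apply, MonoidAlgebra.comul_single]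
        · ext }
    Spec.mapMulEquiv

theorem diagPt_natural (R : Type u) [CommRing R] (M : Type) [AddCommGroup M] {B B' : CommRingCat.{u}} [Algebra R B]
    [Algebra R B'] (g : B ⟶ B') (hg : ∀ r : R, g (algebraMap R B r) = algebraMap R B' r) (χ : Multiplicative M →* B) :
    Spec.map g ≫ (diagPt R M B χ).left = (diagPt R M B' (g.hom.toMonoidHom.comp χ)).left := by
  refine (Spec.map_comp _ _).symm.trans (congrArg Spec.map (CommRingCat.hom_ext ?_))
  let g' : B →ₐ[R] B' := { g.hom with commutes' := hg }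
  have : g'.comp (MonoidAlgebra.lift R B (Multiplicative M) χ) =
      MonoidAlgebra.lift R B' (Multiplicative M) (g.hom.toMonoidHom.comp χ) := by
    apply MonoidAlgebra.algHom_ext
    · intro m
      simp [g']
    · ext
  exact congrArg AlgHom.toRingHom this

/-- The object `Spec B' ⟶ Spec B` over the base. -/
abbrev tr {U : Scheme.{u}} (b : U ⟶ S) {B B' : CommRingCat.{u}} (q : Spec B ⟶ U) (g : B ⟶ B') :
    Over.mk ((Spec.map g ≫ q) ≫ b) ⟶ Over.mk (q ≫ b) :=
  Over.homMk (Spec.map g) (by simp)

/-- A group split with character group `M` over `b : U ⟶ S`, in terms of points. -/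
structure Split (H : Over S) [GrpObj H] {U : Scheme.{u}} (b : U ⟶ S) (M : Type) [AddCommGroup M] where
  /-- the points -/
  pt : ∀ (B : CommRingCat.{u}) (q : Spec B ⟶ U), (Multiplicative M →* B) ≃* (Over.mk (q ≫ b) ⟶ H)
  nat : ∀ (B B' : CommRingCat.{u}) (q : Spec B ⟶ U) (g : B ⟶ B') (χ : Multiplicative M →* B),
    tr b q g ≫ pt B q χ = pt B' (Spec.map g ≫ q) (g.hom.toMonoidHom.comp χ)

/-- The unique algebra structure over `ℤ`. -/
@[reducible] def zAlg (B : CommRingCat.{u}) : Algebra (ULift.{u} ℤ) B :=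
  ((Int.castRingHom B).comp (ULift.ringEquiv : ULift.{u} ℤ ≃+* ℤ).toRingHom).toAlgebra

/-- The base of `D_R(M)` pulled back to `U` along `t`: characters and points. -/
def dsPtAux (R : Type u) [CommRing R] (M : Type) [AddCommGroup M] {U : Scheme.{u}} (t : U ⟶ Spec (CommRingCat.of R))
    (B : CommRingCat.{u}) [Algebra R B] (q : Spec B ⟶ U)
    (hq : q ≫ t = Spec.map (CommRingCat.ofHom (algebraMap R B))) :
    (Multiplicative M →* B) ≃* (Over.mk q ⟶ Red.bc t (Red.diag R M)) :=
  (diagPt R M B).trans ((precompEquiv (G := Red.diag R M)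
    (Over.isoMk (Iso.refl _) (by show 𝟙 _ ≫ _ = q ≫ t; rw [Category.id_comp, hq]; rfl) :
      (Over.map t).obj (Over.mk q) ≅ (Spec B).asOver (Spec (CommRingCat.of R)))).trans
    (adjEquiv t (Red.diag R M) (Over.mk q)))

theorem dsPtAux_natural (R : Type u) [CommRing R] (M : Type) [AddCommGroup M] {U : Scheme.{u}}
    (t : U ⟶ Spec (CommRingCat.of R))
    {B B' : CommRingCat.{u}} [Algebra R B] [Algebra R B'] (q : Spec B ⟶ U) (g : B ⟶ B')
    (hq : q ≫ t = Spec.map (CommRingCat.ofHom (algebraMap R B)))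
    (hq' : (Spec.map g ≫ q) ≫ t = Spec.map (CommRingCat.ofHom (algebraMap R B')))
    (hg : ∀ r : R, g (algebraMap R B r) = algebraMap R B' r) (χ : Multiplicative M →* B) :
    (Over.homMk (Spec.map g) rfl : Over.mk (Spec.map g ≫ q) ⟶ Over.mk q) ≫ dsPtAux R M t B q hq χ =
      dsPtAux R M t B' (Spec.map g ≫ q) hq' (g.hom.toMonoidHom.comp χ) := by
  show _ ≫ (Over.mapPullbackAdj t).homEquiv (Over.mk q) _ (_ ≫ diagPt R M B χ) =
    (Over.mapPullbackAdj t).homEquiv (Over.mk (Spec.map g ≫ q)) _ (_ ≫ diagPt R M B' (g.hom.toMonoidHom.comp χ))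
  rw [← Adjunction.homEquiv_naturality_left]
  congr 1
  apply Over.OverMorphism.ext
  show Spec.map g ≫ 𝟙 _ ≫ (diagPt R M B χ).left = 𝟙 _ ≫ (diagPt R M B' _).left
  rw [Category.id_comp, Category.id_comp]
  exact diagPt_natural R M g hg χ

theorem exists_split {H : Over S} [GrpObj H] {U : Scheme.{u}} (b : U ⟶ S) (M : Type) [AddCommGroup M]
    (e : Grp.mk (Red.bc b H) ≅ Grp.mk (Red.DS U M)) : Nonempty (Split H b M) := by
  let t : U ⟶ Spec (CommRingCat.of (ULift.{u} ℤ)) := Limits.IsTerminal.from specULiftZIsTerminal U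
  refine ⟨⟨fun B q =>
    (@dsPtAux (ULift.{u} ℤ) _ M _ U t B (zAlg B) q (specULiftZIsTerminal.hom_ext _ _)).trans
      ((grpEquiv e (Over.mk q)).symm.trans (adjEquiv b H (Over.mk q)).symm), fun B B' q g χ => ?_⟩⟩
  let a : Over.mk (Spec.map g ≫ q) ⟶ Over.mk q := Over.homMk (Spec.map g) rfl
  have htr : tr b q g = (Over.map b).map a := Over.OverMorphism.ext rfl
  have hd := @dsPtAux_natural (ULift.{u} ℤ) _ M _ U t B B' (zAlg B) (zAlg B') q g
    (specULiftZIsTerminal.hom_ext _ _) (specULiftZIsTerminal.hom_ext _ _) (fun r => map_intCast g.hom r.down) χ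
  show tr b q g ≫ ((Over.mapPullbackAdj b).homEquiv (Over.mk q) H).symm (_ ≫ e.inv.hom.hom) =
    ((Over.mapPullbackAdj b).homEquiv (Over.mk (Spec.map g ≫ q)) H).symm (_ ≫ e.inv.hom.hom)
  refine Eq.trans ?_ (congrArg (fun z => ((Over.mapPullbackAdj b).homEquiv (Over.mk (Spec.map g ≫ q)) H).symm
    (z ≫ e.inv.hom.hom)) hd)
  rw [htr, ← Adjunction.homEquiv_naturality_left_symm, ← Category.assoc]
  rfl

end Groth.Agent.FixedSmooth
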