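import Groth.Agent.FixedSmooth.CoreAlg
/-!
Group-like elements of a group algebra, in terms of characters, and their rigidity along nilpotent ideals.
-/

set_option autoImplicit false

universe u

noncomputable section

namespace Groth.Agent.FixedSmooth

open MonoidAlgebra

variable {B B' : Type u} [CommRing B] [CommRing B'] {G G' : Type} [CommGroup G] [CommGroup G']

/-- Group-like: evaluation at characters is multiplicative. -/
def IsGL (w : MonoidAlgebra B G) : Prop :=
  ∀ {B' : Type u} [CommRing B'] (f : B →+* B') (χ χ' : G →* B'),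
    L f (χ * χ') w = L f χ w * L f χ' w ∧ L f 1 w = 1

theorem IsGL.single (g : G) : IsGL (MonoidAlgebra.single g (1 : B)) := fun {B'} _ f χ χ' => by simp

theorem IsGL.one : IsGL (1 : MonoidAlgebra B G) := fun {B'} _ f χ χ' => by simp

theorem IsGL.mul {v w : MonoidAlgebra B G} (hv : IsGL v) (hw : IsGL w) : IsGL (v * w) := fun {B'} _ f χ χ' => by
  refine ⟨?_, ?_⟩
  · simp only [map_mul, (hv f χ χ').1, (hw f χ χ').1]; ring
  · simp [map_mul, (hv f χ χ').2, (hw f χ χ').2]

theorem IsGL.map (g : B →+* B') {w : MonoidAlgebra B G} (hw : IsGL w) : IsGL (mapRingHom G g w) := fun {B''} _ f χ χ' => by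
  simp only [← L_map]
  exact hw (f.comp g) χ χ'

/-- Pulling a character back along a family of group-likes. -/
theorem L_L (f : B →+* B') (χ : G' →* B') (Ψ : G →* MonoidAlgebra B G') (w : MonoidAlgebra B G) :
    L f χ (L singleOneRingHom Ψ w) = L f ((L f χ).toMonoidHom.comp Ψ) w := by
  show (L f χ).comp (L singleOneRingHom Ψ) w = _
  rw [comp_L, L_comp_single]

theorem IsGL.comp {w : MonoidAlgebra B G} (hw : IsGL w) (Ψ : G →* MonoidAlgebra B G') (hΨ : ∀ g, IsGL (Ψ g)) :
    IsGL (L singleOneRingHom Ψ w) := fun {B''} _ f χ χ' => by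
  simp only [L_L]
  rw [show (L f (χ * χ')).toMonoidHom.comp Ψ = (L f χ).toMonoidHom.comp Ψ * (L f χ').toMonoidHom.comp Ψ from
      MonoidHom.ext fun g => by simpa using (hΨ g f χ χ').1,
    show (L f 1).toMonoidHom.comp Ψ = 1 from MonoidHom.ext fun g => by simpa using (hΨ g f χ χ').2]
  exact hw f _ _

theorem L_id_one (w : MonoidAlgebra B G) : L (RingHom.id B) 1 w = ∑ k ∈ w.coeff.support, w.coeff k := by
  conv_lhs => rw [← sum_single w, Finsupp.sum, map_sum]
  simp

theorem IsGL.sum_eq_one {w : MonoidAlgebra B G} (hw : IsGL w) : ∑ k ∈ w.coeff.support, w.coeff k = 1 := by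
  rw [← L_id_one]
  exact (hw (RingHom.id B) 1 1).2

theorem IsGL.coeff_mul {w : MonoidAlgebra B G} (hw : IsGL w) [DecidableEq G] (k l : G) :
    w.coeff k * w.coeff l = if k = l then w.coeff k else 0 := by
  have h := (hw ((singleOneRingHom : MonoidAlgebra B G →+* MonoidAlgebra (MonoidAlgebra B G) G).comp singleOneRingHom)
    (of (MonoidAlgebra B G) G)
    ((singleOneRingHom : MonoidAlgebra B G →+* MonoidAlgebra (MonoidAlgebra B G) G).toMonoidHom.comp (of B G))).1
  rw [L_single_of, ← comp_L, show L (singleOneRingHom : B →+* MonoidAlgebra B G) (of B G) = RingHom.id _ from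
    MonoidAlgebra.ringHom_ext (fun c => by simp) (fun m => by simp), RingHom.comp_id] at h
  have hlin : ∀ v : MonoidAlgebra B G,
      ((L ((singleOneRingHom : MonoidAlgebra B G →+* MonoidAlgebra (MonoidAlgebra B G) G).comp singleOneRingHom)
        (of (MonoidAlgebra B G) G *
          ((singleOneRingHom : MonoidAlgebra B G →+* MonoidAlgebra (MonoidAlgebra B G) G).toMonoidHom.comp (of B G)))
        v).coeff k).coeff l = if k = l then v.coeff k else 0 := by
    intro v
    induction v using MonoidAlgebra.induction_linear with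
    | zero => simp
    | add a b ha hb => simp only [map_add, coeff_add, Finsupp.add_apply, ha, hb]; split_ifs <;> simp
    | single m r =>
      simp only [L_single, RingHom.coe_comp, Function.comp_apply, MonoidHom.mul_apply, MonoidHom.coe_comp,
        RingHom.toMonoidHom_eq_coe, MonoidHom.coe_coe, of_apply, singleOneRingHom_apply, single_mul_single, one_mul,
        mul_one, coeff_single]
      by_cases hm : m = k
      · subst hm
        simp [coeff_single, Finsupp.single_apply]
      · simp [Finsupp.single_apply, hm]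
  rw [← hlin, h]
  simp [singleOneRingHom]

theorem IsGL.idem {w : MonoidAlgebra B G} (hw : IsGL w) (k : G) : IsIdempotentElem (w.coeff k) := by
  classical
  show w.coeff k * w.coeff k = w.coeff k
  rw [hw.coeff_mul, if_pos rfl]

/-- Group-likes congruent modulo a nilpotent ideal are equal. -/
theorem IsGL.eq_of_map {N : Ideal B} (hN : IsNilpotent N) {v w : MonoidAlgebra B G} (hv : IsGL v) (hw : IsGL w)
    (h : mapRingHom G (Ideal.Quotient.mk N) v = mapRingHom G (Ideal.Quotient.mk N) w) : v = w := by
  ext k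
  refine eq_of_isNilpotent_sub_of_isIdempotentElem (hv.idem k) (hw.idem k) ?_
  have : v.coeff k - w.coeff k ∈ N := Ideal.Quotient.eq.1 (by simpa using congrArg (fun z => z.coeff k) h)
  obtain ⟨n, hn⟩ := hN
  exact ⟨n, by simpa [hn] using Ideal.pow_mem_pow this n⟩

theorem IsGL.of_orthogonal {ι : Type*} [Fintype ι] (k : ι → G) (e : ι → B) (he : CompleteOrthogonalIdempotents e) :
    IsGL (∑ i, MonoidAlgebra.single (k i) (e i)) := fun {B'} _ f χ χ' => by
  classical
  refine ⟨?_, ?_⟩
  · simp only [map_sum, L_single, Finset.sum_mul_sum, MonoidHom.mul_apply]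
    refine Finset.sum_congr rfl fun i _ => ?_
    rw [Finset.sum_eq_single i]
    · rw [show f (e i) * χ (k i) * (f (e i) * χ' (k i)) = f (e i * e i) * (χ (k i) * χ' (k i)) by
        rw [map_mul]; ring, (he.idem i).eq]
    · intro j _ hj
      rw [show f (e i) * χ (k i) * (f (e j) * χ' (k j)) = f (e i * e j) * (χ (k i) * χ' (k j)) by
        rw [map_mul]; ring, he.ortho (Ne.symm hj), map_zero, zero_mul]
    · simp
  · rw [map_sum]; simp only [L_single, MonoidHom.one_apply, mul_one]; rw [← map_sum, he.complete, map_one]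

/-- Group-likes lift along nilpotent ideals. -/
theorem exists_GL_lift {N : Ideal B} (hN : IsNilpotent N) (w₀ : MonoidAlgebra (B ⧸ N) G) (h₀ : IsGL w₀) :
    ∃ w : MonoidAlgebra B G, IsGL w ∧ mapRingHom G (Ideal.Quotient.mk N) w = w₀ := by
  classical
  let e₀ : w₀.coeff.support → B ⧸ N := fun k => w₀.coeff k.1
  have he₀ : CompleteOrthogonalIdempotents e₀ :=
    { idem := fun k => h₀.idem k.1
      ortho := fun i j hij => by
        show w₀.coeff i.1 * w₀.coeff j.1 = 0
        rw [h₀.coeff_mul, if_neg (fun h => hij (Subtype.ext h))]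
      complete := by
        rw [← h₀.sum_eq_one, ← Finset.sum_coe_sort w₀.coeff.support] }
  obtain ⟨e, he, hee⟩ := CompleteOrthogonalIdempotents.lift_of_isNilpotent_ker (f := Ideal.Quotient.mk N)
    (fun x hx => by
      rw [Ideal.mk_ker] at hx
      obtain ⟨n, hn⟩ := hN
      exact ⟨n, by simpa [hn] using Ideal.pow_mem_pow hx n⟩)
    he₀ (fun i => Ideal.Quotient.mk_surjective _)
  refine ⟨_, IsGL.of_orthogonal (fun k => k.1) e he, ?_⟩
  rw [map_sum]
  conv_rhs => rw [← sum_single w₀, Finsupp.sum, ← Finset.sum_coe_sort w₀.coeff.support]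
  refine Finset.sum_congr rfl fun k _ => ?_
  rw [mapRingHom_single]
  exact congrArg _ (congrFun hee k)

/-- A multiplicative family of group-likes modulo a nilpotent ideal lifts uniquely. -/
theorem exists_GL_hom_lift {N : Ideal B} (hN : IsNilpotent N) (Ψ : G →* MonoidAlgebra (B ⧸ N) G')
    (hΨ : ∀ g, IsGL (Ψ g)) :
    ∃ Φ : G →* MonoidAlgebra B G', (∀ g, IsGL (Φ g)) ∧
      (mapRingHom G' (Ideal.Quotient.mk N)).toMonoidHom.comp Φ = Ψ := by
  choose φ hφ hφm using fun g => exists_GL_lift hN (Ψ g) (hΨ g)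
  refine ⟨{ toFun := φ, map_one' := ?_, map_mul' := fun a b => ?_ }, hφ, MonoidHom.ext hφm⟩
  · exact IsGL.eq_of_map hN (hφ 1) IsGL.one (by rw [hφm, map_one, map_one])
  · exact IsGL.eq_of_map hN (hφ _) (IsGL.mul (hφ a) (hφ b)) (by rw [hφm, map_mul, map_mul, hφm, hφm])

end Groth.Agent.FixedSmooth
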