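import Groth.Agent.FixedSmooth.CoreLocal
import Groth.Prelude.Def_AlgGrp
/-!
The fixed locus of a group of multiplicative type acting on a smooth separated scheme is closed and smooth.
-/

set_option autoImplicit false
set_option backward.isDefEq.respectTransparency false
set_option backward.isDefEq.respectTransparency.types false
set_option linter.style.haveILetI false

universe u

open CategoryTheory CategoryTheory.Limits MonoidalCategory CartesianMonoidalCategory MonObj AlgebraicGeometry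

noncomputable section

namespace Groth.Agent.FixedSmooth

open WeilClosedLib

variable {S : Scheme.{u}}

/-- The associativity of an action on points. -/
theorem action_assoc {H X : Over S} [GrpObj H] (a : AlgGrp.Action H X) (Y : Over S) (h h' : Y ⟶ H) (x : Y ⟶ X) :
    lift h (lift h' x ≫ a.act) ≫ a.act = lift (h * h') x ≫ a.act := by
  have key := congrArg (fun m => lift (lift h h') x ≫ m) a.mul_act
  simp only [← Category.assoc] at key
  have e1 : lift (lift h h') x ≫ μ[H] ▷ X = lift (h * h') x := by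
    apply CartesianMonoidalCategory.hom_ext <;> simp [Hom.mul_def]
  have e2 : lift (lift h h') x ≫ (α_ H H X).hom ≫ H ◁ a.act = lift h (lift h' x ≫ a.act) := by
    apply CartesianMonoidalCategory.hom_ext
    · simp
    · simp only [Category.assoc, whiskerLeft_snd, lift_snd]
      rw [← Category.assoc, ← Category.assoc]
      congr 1
      apply CartesianMonoidalCategory.hom_ext <;> simp
  rw [e1] at key
  simp only [Category.assoc] at key e2
  rw [key]
  simp only [← Category.assoc] at e2 ⊢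
  rw [e2]

theorem isAffine_pullback_of_factor {T W A : Scheme.{u}} [IsAffine W] [IsAffine A] (V : T.Opens) [IsAffine V.toScheme]
    (f : W ⟶ T) (g : A ⟶ T) (f' : W ⟶ V.toScheme) (g' : A ⟶ V.toScheme) (hf : f' ≫ V.ι = f) (hg : g' ≫ V.ι = g) :
    IsAffine (pullback f g) := by
  subst hf hg
  let e : pullback (f' ≫ V.ι) (g' ≫ V.ι) ≅ pullback f' g' :=
    { hom := pullback.lift (pullback.fst _ _) (pullback.snd _ _) (by
        rw [← cancel_mono V.ι, Category.assoc, Category.assoc, pullback.condition])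
      inv := pullback.lift (pullback.fst _ _) (pullback.snd _ _) (by rw [pullback.condition_assoc])
      hom_inv_id := by apply pullback.hom_ext <;> simp
      inv_hom_id := by apply pullback.hom_ext <;> simp }
  haveI : IsIso e.hom := e.isIso_hom
  haveI : IsAffine (pullback f' g') := inferInstance
  exact IsAffine.of_isIso e.hom

variable {H X : Over S} [GrpObj H] [Smooth X.hom]

theorem lifts_fixed {U : Scheme.{u}} {b : U ⟶ S} {M : Type} [AddCommGroup M] (σ : Split H b M)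
    (act : H ⊗ X ⟶ X)
    (hact : ∀ (Y : Over S) (h h' : Y ⟶ H) (x : Y ⟶ X),
      lift h (lift h' x ≫ act) ≫ act = lift (h * h') x ≫ act)
    {T : Over S} (j : T ⟶ X) [IsClosedImmersion j.left]
    (hrep : ∀ (Y : Over S) (x : Y ⟶ X), (∃ y : Y ⟶ T, y ≫ j = x) ↔ IsFixed act x)
    (V : S.Opens) (hV : IsAffineOpen V) (W : X.left.Opens) (hW : IsAffineOpen W) (hWV : W ≤ X.hom ⁻¹ᵁ V)
    (B : CommRingCat.{u}) (q : Spec B ⟶ U) (qV : Spec B ⟶ V.toScheme) (hqV : qV ≫ V.ι = q ≫ b)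
    (N : Ideal B) (hN : N ^ 2 = ⊥)
    (z : Spec (CommRingCat.of (B ⧸ N)) ⟶ (j.left ⁻¹ᵁ W).toScheme)
    (hz : z ≫ (j.left ⁻¹ᵁ W).ι ≫ T.hom = (Spec.map (CommRingCat.ofHom (Ideal.Quotient.mk N)) ≫ q) ≫ b) :
    ∃ z' : Spec B ⟶ (j.left ⁻¹ᵁ W).toScheme, z' ≫ (j.left ⁻¹ᵁ W).ι ≫ T.hom = q ≫ b ∧
      Spec.map (CommRingCat.ofHom (Ideal.Quotient.mk N)) ≫ z' = z := by
  haveI : IsAffine V.toScheme := hV
  haveI : IsAffine W.toScheme := hW
  haveI : Smooth (W.ι ≫ X.hom) := inferInstance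
  haveI : IsAffine (pullback (W.ι ≫ X.hom) (q ≫ b)) :=
    isAffine_pullback_of_factor V _ _ (X.hom.resLE V W hWV) qV (Scheme.Hom.resLE_comp_ι _ _) hqV
  let z₀ := z ≫ (j.left ∣_ W)
  have hz₀ : (z₀ ≫ W.ι) ≫ X.hom = (Spec.map (CommRingCat.ofHom (Ideal.Quotient.mk N)) ≫ q) ≫ b := by
    simp only [z₀, Category.assoc, morphismRestrict_ι_assoc, Over.w]
    exact hz.trans (Category.assoc _ _ _)
  have h₀ : IsFixed act (Over.homMk (z₀ ≫ W.ι) hz₀ :
      Over.mk ((Spec.map (CommRingCat.ofHom (Ideal.Quotient.mk N)) ≫ q) ≫ b) ⟶ X) := by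
    refine (hrep _ _).1 ⟨Over.homMk (z ≫ (j.left ⁻¹ᵁ W).ι) ((Category.assoc _ _ _).trans hz), ?_⟩
    apply Over.OverMorphism.ext
    show (z ≫ (j.left ⁻¹ᵁ W).ι) ≫ j.left = z₀ ≫ W.ι
    simp [z₀]
  obtain ⟨x, zB, hzB, hfix, hzz⟩ :=
    exists_fixed_lift_local act hact j hrep W σ B q N hN z₀ hz₀ h₀
  obtain ⟨y, hy⟩ := (hrep _ x).2 hfix
  have hyx : y.left ≫ j.left = x.left := congrArg CommaMorphism.left hy
  have hr : Set.range y.left ⊆ Set.range (j.left ⁻¹ᵁ W).ι := by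
    rw [Scheme.Opens.range_ι]
    rintro _ ⟨p, rfl⟩
    show j.left (y.left p) ∈ W
    rw [← Scheme.Hom.comp_apply, hyx, ← hzB, Scheme.Hom.comp_apply]
    exact (zB p).2
  refine ⟨IsOpenImmersion.lift (j.left ⁻¹ᵁ W).ι y.left hr, ?_, ?_⟩
  · rw [IsOpenImmersion.lift_fac_assoc]
    exact Over.w y
  · rw [← cancel_mono (j.left ⁻¹ᵁ W).ι, Category.assoc, IsOpenImmersion.lift_fac, ← cancel_mono j.left,
      Category.assoc, hyx, ← hzB, ← Category.assoc, hzz]
    simp [z₀]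

end Groth.Agent.FixedSmooth

namespace Groth.Agent.FixedSmooth

open WeilClosedLib

variable {S : Scheme.{u}} {X : Over S}

/-- A closed subscheme is smooth over the base when its points lift locally on affine charts. -/
theorem smooth_of_chart_lifts [Smooth X.hom] {T : Over S} (j : T ⟶ X) [IsClosedImmersion j.left]
    [LocallyOfFinitePresentation T.hom]
    {S' : Scheme.{u}} (c : S' ⟶ S) (hc : Flat c)
    (hqc : ∀ V : S.Opens, IsAffineOpen V → ∃ W : S'.Opens, IsCompact (W : Set S') ∧ c.base '' (W : Set S') = (V : Set S))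
    (hloc : ∀ s' : S', ∃ U : S'.Opens, s' ∈ U ∧
      ∀ (V : S.Opens), IsAffineOpen V → ∀ (W : X.left.Opens), IsAffineOpen W → W ≤ X.hom ⁻¹ᵁ V →
      ∀ (B : CommRingCat.{u}) (q : Spec B ⟶ U.toScheme) (qV : Spec B ⟶ V.toScheme),
        qV ≫ V.ι = q ≫ U.ι ≫ c → ∀ (N : Ideal B), N ^ 2 = ⊥ →
        ∀ z : Spec (CommRingCat.of (B ⧸ N)) ⟶ T.left,
          z ≫ T.hom = (Spec.map (CommRingCat.ofHom (Ideal.Quotient.mk N)) ≫ q) ≫ U.ι ≫ c →
          Set.range (z ≫ j.left) ⊆ (W : Set X.left) →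
          ∃ y : Spec B ⟶ T.left, y ≫ T.hom = q ≫ U.ι ≫ c ∧
            Spec.map (CommRingCat.ofHom (Ideal.Quotient.mk N)) ≫ y = z) : Smooth T.hom := by
  haveI := hc
  have hch : ∀ t : T.left, ∃ (V : S.Opens) (W : X.left.Opens),
      IsAffineOpen V ∧ IsAffineOpen W ∧ W ≤ X.hom ⁻¹ᵁ V ∧ j.left t ∈ W := fun t => by
    obtain ⟨V, hV, htV, -⟩ :=
      exists_isAffineOpen_mem_and_subset (x := X.hom (j.left t)) (U := ⊤) trivial
    obtain ⟨W, hW, htW, hle⟩ :=
      exists_isAffineOpen_mem_and_subset (x := j.left t) (U := X.hom ⁻¹ᵁ V) htV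
    exact ⟨V, W, hV, hW, hle, htW⟩
  choose V W hV hW hWV htW using hch
  haveI : IsZariskiLocalAtSource (@Smooth.{u}) :=
    HasRingHomProperty.instIsZariskiLocalAtSource.{u} (Q := RingHom.Smooth)
  refine IsZariskiLocalAtSource.of_iSup_eq_top (P := @Smooth.{u}) (fun t => j.left ⁻¹ᵁ W t)
    (eq_top_iff.2 fun t _ => TopologicalSpace.Opens.mem_iSup.2 ⟨t, htW t⟩) fun t => ?_
  haveI : IsAffine (V t).toScheme := hV t
  haveI : IsAffine (j.left ⁻¹ᵁ W t).toScheme := (hW t).preimage j.left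
  have hle : j.left ⁻¹ᵁ W t ≤ T.hom ⁻¹ᵁ V t := fun p hp => by
    show T.hom p ∈ V t
    rw [← Over.w j, Scheme.Hom.comp_apply]
    exact hWV t hp
  let f' := T.hom.resLE (V t) (j.left ⁻¹ᵁ W t) hle
  have hf' : f' ≫ (V t).ι = (j.left ⁻¹ᵁ W t).ι ≫ T.hom := Scheme.Hom.resLE_comp_ι _ _
  haveI : IsAffineHom f' := isAffineHom_of_isAffine _
  haveI : LocallyOfFinitePresentation f' := by
    haveI : LocallyOfFinitePresentation (f' ≫ (V t).ι) := by rw [hf']; infer_instance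
    exact FlatLocus.locallyOfFinitePresentation_of_comp f' (V t).ι
  have hs : Smooth f' := by
    haveI : Flat (c ∣_ V t) := IsZariskiLocalAtTarget.restrict (P := @Flat.{u}) hc _
    refine smooth_of_locally_lifts f' (c ∣_ V t) (fun V' hV' => ?_) fun s' => ?_
    · obtain ⟨W', hW'c, hW'⟩ := hqc ((V t).ι ''ᵁ V') (hV'.image_of_isOpenImmersion _)
      have hsub : (W' : Set S') ⊆ Set.range (c ⁻¹ᵁ V t).ι := by
        rw [Scheme.Opens.range_ι]
        intro w hw
        obtain ⟨v, -, hv⟩ := hW'.subset ⟨w, hw, rfl⟩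
        show c w ∈ V t
        erw [← hv]
        exact v.2
      refine ⟨(c ⁻¹ᵁ V t).ι ⁻¹ᵁ W', (c ⁻¹ᵁ V t).ι.isOpenEmbedding.isInducing.isCompact_preimage'
        hW'c hsub, ?_⟩
      ext v
      constructor
      · rintro ⟨w, hw, rfl⟩
        obtain ⟨v', hv', e⟩ := hW'.subset ⟨_, hw, rfl⟩
        have : v' = (c ∣_ V t) w := (V t).ι.isOpenEmbedding.injective (by
          rw [← Scheme.Hom.comp_apply (c ∣_ V t), morphismRestrict_ι, Scheme.Hom.comp_apply]
          exact e)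
        exact this ▸ hv'
      · intro hv
        obtain ⟨w, hw, e⟩ := hW'.superset ⟨v, hv, rfl⟩
        obtain ⟨w, rfl⟩ := hsub hw
        refine ⟨w, hw, (V t).ι.isOpenEmbedding.injective ?_⟩
        show (V t).ι ((c ∣_ V t) w) = (V t).ι v
        rw [← Scheme.Hom.comp_apply (c ∣_ V t), morphismRestrict_ι, Scheme.Hom.comp_apply]
        exact e
    obtain ⟨U, hU, hL⟩ := hloc ((c ⁻¹ᵁ V t).ι s')
    refine ⟨(c ⁻¹ᵁ V t).ι ⁻¹ᵁ U, hU, fun B q N hN z hz => ?_⟩
    let m := ((c ⁻¹ᵁ V t).ι ∣_ U)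
    have hm : m ≫ U.ι ≫ c = ((c ⁻¹ᵁ V t).ι ⁻¹ᵁ U).ι ≫ (c ∣_ V t) ≫ (V t).ι := by
      simp [m, morphismRestrict_ι]
    have hzW : Set.range ((z ≫ (j.left ⁻¹ᵁ W t).ι) ≫ j.left) ⊆ (W t : Set X.left) := by
      rintro _ ⟨p, rfl⟩
      rw [Scheme.Hom.comp_apply, Scheme.Hom.comp_apply]
      exact (z p).2
    obtain ⟨y, hy, hyz⟩ := hL (V t) (hV t) (W t) (hW t) (hWV t) B (q ≫ m)
      (q ≫ ((c ⁻¹ᵁ V t).ι ⁻¹ᵁ U).ι ≫ (c ∣_ V t)) (by simp [hm]) N hN (z ≫ (j.left ⁻¹ᵁ W t).ι) (by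
        rw [Category.assoc, ← hf', reassoc_of% hz]
        simp [hm]) hzW
    have hr : Set.range y ⊆ Set.range (j.left ⁻¹ᵁ W t).ι := by
      rw [Scheme.Opens.range_ι]
      rintro _ ⟨p, rfl⟩
      haveI := surjective_Spec_map (CommRingCat.ofHom (Ideal.Quotient.mk N)) Ideal.Quotient.mk_surjective hN
        (by rw [CommRingCat.hom_ofHom, Ideal.mk_ker])
      obtain ⟨p, rfl⟩ := (inferInstance : Surjective (Spec.map (CommRingCat.ofHom (Ideal.Quotient.mk N)))).surj p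
      erw [← Scheme.Hom.comp_apply, hyz, Scheme.Hom.comp_apply]
      exact (z p).2
    refine ⟨IsOpenImmersion.lift (j.left ⁻¹ᵁ W t).ι y hr, ?_, ?_⟩
    · rw [← cancel_mono (V t).ι, Category.assoc, hf', IsOpenImmersion.lift_fac_assoc, hy]
      simp [hm]
    · rw [← cancel_mono (j.left ⁻¹ᵁ W t).ι, Category.assoc, IsOpenImmersion.lift_fac, hyz]
  show Smooth ((j.left ⁻¹ᵁ W t).ι ≫ T.hom)
  rw [← hf']
  haveI := hs
  infer_instance

/-- The fixed locus of an action along an essentially free factor is closed. -/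
theorem exists_closed_fixed {H : Over S} (hfree : SGA3x.IsEssentiallyFree H.hom) [IsSeparated X.hom]
    (act : H ⊗ X ⟶ X) :
    ∃ (T : Over S) (j : T ⟶ X), IsClosedImmersion j.left ∧
      (∀ (Y : Over S) (x : Y ⟶ X), (∃ y : Y ⟶ T, y ≫ j = x) ↔ IsFixed act x) ∧
      (QuasiCompact H.hom → LocallyOfFiniteType X.hom → LocallyOfFinitePresentation j.left) := by
  obtain ⟨E, jE, -, hsep, hlE, hE⟩ := exists_immersion_equalizer (lift (snd X H) (fst X H) ≫ act) (fst X H)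
  haveI := hsep inferInstance
  obtain ⟨T, j, hj, hT, hl⟩ := exists_closed_forall hfree jE
  exact ⟨T, j, hj, fun Y x =>
    (hT Y x).trans (forall₃_congr fun Y' s h => by rw [hE, ← Category.assoc, comp_lift]; simp),
    fun hq hlf => hl hq (hlE hlf)⟩

/-- The fixed locus is closed and smooth. -/
theorem exists_smooth_fixed {H : Over S} [GrpObj H] [Smooth X.hom] (hH : IsMultTypeLoc H) [IsSeparated X.hom]
    (act : H ⊗ X ⟶ X)
    (hact : ∀ (Y : Over S) (h h' : Y ⟶ H) (x : Y ⟶ X),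
      lift h (lift h' x ≫ act) ≫ act = lift (h * h') x ≫ act) :
    ∃ (T : Over S) (j : T ⟶ X), IsClosedImmersion j.left ∧ Smooth T.hom ∧
      ∀ (Y : Over S) (x : Y ⟶ X), (∃ y : Y ⟶ T, y ≫ j = x) ↔ IsFixed act x := by
  obtain ⟨T, j, hj, hrep, hl⟩ := exists_closed_fixed (isEssentiallyFree_of_isMultTypeLoc H hH) act
  haveI := hl (quasiCompact_of_isMultTypeLoc H hH) inferInstance
  haveI : LocallyOfFinitePresentation T.hom := by rw [← Over.w j]; infer_instance
  obtain ⟨S', c, hc, -, hqc, hloc⟩ := hH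
  refine ⟨T, j, hj, smooth_of_chart_lifts j c hc hqc fun s' => ?_, hrep⟩
  obtain ⟨U, hU, M, _, ⟨e⟩⟩ := hloc s'
  obtain ⟨σ⟩ := exists_split (U.ι ≫ c) M e
  refine ⟨U, hU, fun V hV W hW hWV B q qV hqV N hN z hz hzW => ?_⟩
  have hr : Set.range z ⊆ Set.range (j.left ⁻¹ᵁ W).ι := by
    rw [Scheme.Opens.range_ι]
    rintro _ ⟨p, rfl⟩
    exact hzW ⟨p, Scheme.Hom.comp_apply _ _ _⟩
  obtain ⟨z', hz'1, hz'2⟩ := lifts_fixed σ act hact j hrep V hV W hW hWV B q qV hqV N hN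
    (IsOpenImmersion.lift (j.left ⁻¹ᵁ W).ι z hr) (by rw [IsOpenImmersion.lift_fac_assoc]; exact hz)
  refine ⟨z' ≫ (j.left ⁻¹ᵁ W).ι, (Category.assoc _ _ _).trans hz'1, ?_⟩
  rw [← Category.assoc, hz'2, IsOpenImmersion.lift_fac]

end Groth.Agent.FixedSmooth
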