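import Mathlib
/-!
Averaging over a diagonalisable group: the algebra.
-/

set_option autoImplicit false

universe u

noncomputable section

namespace Groth.Agent.FixedSmooth

open MonoidAlgebra

variable {C B B' : Type u} [CommRing C] [CommRing B] [CommRing B'] {G : Type} [CommGroup G]

/-- Evaluation of a group algebra at a point and a character. -/
def L (φ : C →+* B) (χ : G →* B) : MonoidAlgebra C G →+* B :=
  MonoidAlgebra.liftNCRingHom φ χ fun _ _ => Commute.all _ _

@[simp] theorem L_single (φ : C →+* B) (χ : G →* B) (g : G) (c : C) : L φ χ (single g c) = φ c * χ g :=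
  MonoidAlgebra.liftNC_single _ _ _ _

theorem L_comp_single (φ : C →+* B) (χ : G →* B) : (L φ χ).comp singleOneRingHom = φ := by
  ext c; simp

theorem L_comp_of (φ : C →+* B) (χ : G →* B) : (L φ χ).toMonoidHom.comp (of C G) = χ := by
  ext g; simp

theorem comp_L (g : B →+* B') (φ : C →+* B) (χ : G →* B) : g.comp (L φ χ) = L (g.comp φ) (g.toMonoidHom.comp χ) :=
  MonoidAlgebra.ringHom_ext (fun c => by simp) (fun m => by simp)

theorem L_single_of (φ : C →+* B) :
    L ((singleOneRingHom : B →+* MonoidAlgebra B G).comp φ) (of B G) = mapRingHom G φ :=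
  MonoidAlgebra.ringHom_ext (fun c => by simp) (fun m => by simp)

theorem L_map (φ : C →+* B) (g : B →+* B') (χ : G →* B') (w : MonoidAlgebra C G) :
    L (g.comp φ) χ w = L g χ (mapRingHom G φ w) := by
  show _ = (L g χ).comp (mapRingHom G φ) w
  refine RingHom.congr_fun (MonoidAlgebra.ringHom_ext (fun c => ?_) (fun m => ?_)) w <;> simp

/-- The average: the invariant component. -/
def avg (ρ : C →+* MonoidAlgebra C G) (c : C) : C := (ρ c).coeff 1

theorem avg_coeff (ρ : C →+* MonoidAlgebra C G)
    (h : ∀ c, mapRingHom G ρ (ρ c) =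
      L ((singleOneRingHom : MonoidAlgebra C G →+* MonoidAlgebra (MonoidAlgebra C G) G).comp singleOneRingHom)
        (of (MonoidAlgebra C G) G *
          ((singleOneRingHom : MonoidAlgebra C G →+* MonoidAlgebra (MonoidAlgebra C G) G).toMonoidHom.comp (of C G)))
        (ρ c))
    (c : C) [DecidableEq G] (n : G) :
    avg ρ ((ρ c).coeff n) = if n = 1 then avg ρ c else 0 := by
  have hlin : ∀ w : MonoidAlgebra C G, ((L ((singleOneRingHom : MonoidAlgebra C G →+* MonoidAlgebra (MonoidAlgebra C G) G).comp singleOneRingHom)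
      (of (MonoidAlgebra C G) G *
          ((singleOneRingHom : MonoidAlgebra C G →+* MonoidAlgebra (MonoidAlgebra C G) G).toMonoidHom.comp (of C G)))
        w).coeff n).coeff 1 = if n = 1 then w.coeff 1 else 0 := by
    intro w
    induction w using MonoidAlgebra.induction_linear with
    | zero => simp
    | add a b ha hb => simp only [map_add, coeff_add, Finsupp.add_apply, ha, hb]; split_ifs <;> simp
    | single k r =>
      simp only [L_single, RingHom.coe_comp, Function.comp_apply, MonoidHom.mul_apply, MonoidHom.coe_comp,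
        RingHom.toMonoidHom_eq_coe, MonoidHom.coe_coe, of_apply, singleOneRingHom_apply, single_mul_single, one_mul,
        mul_one, coeff_single]
      by_cases hk : k = n
      · subst hk
        by_cases h1 : k = 1 <;> simp [h1, coeff_single, Finsupp.single_apply]
      · by_cases h1 : n = 1
        · subst h1; simp [Finsupp.single_apply, hk]
        · simp [Finsupp.single_apply, hk, h1]
  have := congrArg (fun z => (z.coeff n).coeff 1) (h c)
  simp only [hlin] at this
  show (ρ ((ρ c).coeff n)).coeff 1 = if n = 1 then (ρ c).coeff 1 else 0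
  simpa using this

theorem map_avg_mul (ρ : C →+* MonoidAlgebra C G) (φ : C →+* B) {N : Ideal B} (hN : N ^ 2 = ⊥)
    (hoff : ∀ c (g : G), g ≠ 1 → φ ((ρ c).coeff g) ∈ N) (c d : C) :
    φ (avg ρ (c * d)) = φ (avg ρ c) * φ (avg ρ d) := by
  classical
  let q := (mapRingHom G φ).comp ρ
  have hq : ∀ c g, (q c).coeff g = φ ((ρ c).coeff g) := fun c g => by simp [q]
  have hd : ∀ c, q c - single 1 ((q c).coeff 1) ∈ N.map (singleOneRingHom : B →+* MonoidAlgebra B G) := fun c => by
    have : q c - single 1 ((q c).coeff 1) =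
        ∑ g ∈ (q c).coeff.support.erase 1, singleOneRingHom ((q c).coeff g) * single g (1 : B) := by
      have hs : ∀ (r : B) (g : G), singleOneRingHom r * single g (1 : B) = single g r := fun r g => by
        simp [singleOneRingHom]
      simp only [hs]
      rw [sub_eq_iff_eq_add]
      by_cases h1 : (1 : G) ∈ (q c).coeff.support
      · rw [Finset.sum_erase_add _ (fun g => single g ((q c).coeff g)) h1]
        exact ((q c).sum_single).symm
      · rw [Finset.erase_eq_of_notMem h1, Finsupp.notMem_support_iff.1 h1, single_zero, add_zero]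
        exact ((q c).sum_single).symm
    rw [this]
    refine Ideal.sum_mem _ fun g hg => Ideal.mul_mem_right _ _ (Ideal.mem_map_of_mem _ ?_)
    rw [hq]
    exact hoff c g (Finset.ne_of_mem_erase hg)
  have hz : (q c - single 1 ((q c).coeff 1)) * (q d - single 1 ((q d).coeff 1)) = 0 := by
    have := Ideal.mul_mem_mul (hd c) (hd d)
    rwa [← Ideal.map_mul, ← pow_two, hN, Ideal.map_bot, Ideal.mem_bot] at this
  have := congrArg (fun z => z.coeff 1) hz
  simp only [sub_mul, mul_sub, coeff_sub, Finsupp.sub_apply, coeff_single_one_mul, coeff_mul_single_one,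
    single_mul_single, one_mul, coeff_single, Finsupp.single_eq_same, coeff_zero, Finsupp.zero_apply] at this
  show φ ((ρ (c * d)).coeff 1) = φ ((ρ c).coeff 1) * φ ((ρ d).coeff 1)
  rw [← hq, ← hq, ← hq, map_mul]
  linear_combination this

/-- The lift of a fixed point. -/
theorem exists_avg (ρ : C →+* MonoidAlgebra C G)
    (h : ∀ c, mapRingHom G ρ (ρ c) =
      L ((singleOneRingHom : MonoidAlgebra C G →+* MonoidAlgebra (MonoidAlgebra C G) G).comp singleOneRingHom)
        (of (MonoidAlgebra C G) G *
          ((singleOneRingHom : MonoidAlgebra C G →+* MonoidAlgebra (MonoidAlgebra C G) G).toMonoidHom.comp (of C G)))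
        (ρ c))
    (φ : C →+* B) {N : Ideal B} (hN : N ^ 2 = ⊥)
    (hfix : (mapRingHom G ((Ideal.Quotient.mk N).comp φ)).comp ρ =
      (singleOneRingHom).comp ((Ideal.Quotient.mk N).comp φ)) :
    ∃ φ' : C →+* B, (∀ c, Ideal.Quotient.mk N (φ' c) = Ideal.Quotient.mk N (φ c)) ∧
      (∀ c, ρ c = single 1 c → φ' c = φ c) ∧
      (∀ {B' : Type u} [CommRing B'] (f : B →+* B') (χ : G →* B') (c : C),
        L (f.comp φ') χ (ρ c) = f (φ' c)) ∧ ∀ c, φ' c = φ (avg ρ c) := by
  classical
  have hcoef : ∀ c g, Ideal.Quotient.mk N (φ ((ρ c).coeff g)) = if g = 1 then Ideal.Quotient.mk N (φ c) else 0 :=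
    fun c g => by
    have := congrArg (fun z => z.coeff g) (RingHom.congr_fun hfix c)
    simpa [Finsupp.single_apply, eq_comm] using this
  have hoff : ∀ c (g : G), g ≠ 1 → φ ((ρ c).coeff g) ∈ N := fun c g hg =>
    Ideal.Quotient.eq_zero_iff_mem.1 (by rw [hcoef, if_neg hg])
  let φ' : C →+* B :=
    { toFun := fun c => φ (avg ρ c)
      map_one' := by simp [avg, one_def]
      map_mul' := map_avg_mul ρ φ hN hoff
      map_zero' := by simp [avg]
      map_add' := fun a b => by simp [avg] }
  refine ⟨φ', fun c => ?_, fun c hc => ?_, fun {B'} _ f χ c => ?_, fun c => rfl⟩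
  · show Ideal.Quotient.mk N (φ ((ρ c).coeff 1)) = _
    rw [hcoef, if_pos rfl]
  · show φ (avg ρ c) = φ c
    simp [avg, hc]
  · rw [L_map, show mapRingHom G φ' (ρ c) = single 1 (φ' c) from ?_]
    · simp
    · ext g
      simp only [coeff_mapRingHom, coeff_single, Finsupp.single_apply]
      show φ (avg ρ ((ρ c).coeff g)) = _
      rw [avg_coeff ρ h]
      by_cases hg : g = 1
      · subst hg; simp [φ']
      · rw [if_neg hg, if_neg (Ne.symm hg), map_zero]

end Groth.Agent.FixedSmooth
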