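import Groth.Agent.FixedSmooth.Normalizer
/-!
The centraliser of a subgroup of multiplicative type is open and closed in its normaliser.
-/

set_option autoImplicit false
set_option backward.isDefEq.respectTransparency false
set_option backward.isDefEq.respectTransparency.types false
set_option linter.style.haveILetI false

universe u

open CategoryTheory CategoryTheory.Limits MonoidalCategory CartesianMonoidalCategory MonObj AlgebraicGeometry

noncomputable section

namespace Groth.Agent.FixedSmooth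

open WeilClosedLib

/-- A normalising point which centralises modulo a nilpotent ideal centralises. -/
theorem centralizes_of_reduction {R : CommRingCat.{u}} {H G : Over (Spec R)} [GrpObj H] [GrpObj G]
    {M : Type} [AddCommGroup M] (σ : Split H (𝟙 (Spec R)) M) (i : H ⟶ G) [IsMonHom i] [Mono i]
    (x : pr (𝟙 R) ⟶ G) (hx : Contain i i x) (N : Ideal R) (hN : IsNilpotent N)
    (h₀ : ∀ (X' : Over (Spec R)) (s : X' ⟶ pr (CommRingCat.ofHom (Ideal.Quotient.mk N))) (h : X' ⟶ H),
      (s ≫ trq (CommRingCat.ofHom (Ideal.Quotient.mk N)) (Category.id_comp _) ≫ x) * (h ≫ i) =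
        (h ≫ i) * (s ≫ trq (CommRingCat.ofHom (Ideal.Quotient.mk N)) (Category.id_comp _) ≫ x))
    (X' : Over (Spec R)) (s : X' ⟶ pr (𝟙 R)) (h : X' ⟶ H) :
    (s ≫ x) * (h ≫ i) = (h ≫ i) * (s ≫ x) := by
  let π := CommRingCat.ofHom (Ideal.Quotient.mk N)
  obtain ⟨Φ, hΦ, hΦx⟩ := exists_GL_of_contain σ σ i i (𝟙 R) x hx
  have hΦ1 : ∀ m, Φ m = MonoidAlgebra.single m 1 := fun m => by
    refine IsGL.eq_of_map hN (hΦ m) (IsGL.single m) ?_
    rw [MonoidAlgebra.mapRingHom_single, map_one]
    let BM : CommRingCat.{u} := CommRingCat.of (MonoidAlgebra (R ⧸ N) (Multiplicative M))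
    let t1 : CommRingCat.of (R ⧸ N) ⟶ BM := CommRingCat.ofHom MonoidAlgebra.singleOneRingHom
    let χ := MonoidAlgebra.of (R ⧸ N) (Multiplicative M)
    have a := hΦx BM (π ≫ t1) χ
    have e : trp (𝟙 R) (π ≫ t1) ≫ x = trq (f := π) t1 (by rw [Category.id_comp]) ≫ trq π (Category.id_comp _) ≫ x := by
      apply Over.OverMorphism.ext
      show Spec.map (π ≫ t1) ≫ x.left = Spec.map t1 ≫ Spec.map π ≫ x.left
      rw [Spec.map_comp, Category.assoc]
    rw [e, h₀ _ _ (σ.pr' (𝟙 R ≫ π ≫ t1) χ), mul_inv_cancel_right] at a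
    have := DFunLike.congr_fun ((σ.pr' _).injective ((cancel_mono i).1 a)) m
    refine Eq.trans ?_ this.symm
    show _ = L (t1.hom.comp π.hom) χ (Φ m)
    rw [L_map]
    show MonoidAlgebra.mapRingHom _ (Ideal.Quotient.mk N) (Φ m) = _
    refine (RingHom.congr_fun (show L t1.hom χ = RingHom.id _ from
      MonoidAlgebra.ringHom_ext (fun c => ?_) (fun g => ?_)) _).symm
    · rw [L_single, map_one, _root_.mul_one, RingHom.id_apply]
      rfl
    · rw [L_single, map_one, _root_.one_mul, RingHom.id_apply]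
      rfl
  refine hom_ext_affine _ _ fun B p w => ?_
  obtain ⟨f, hf, hfw⟩ := exists_over_pr (𝟙 R) (w ≫ s)
  subst hf
  have ew : w ≫ s = trp (𝟙 R) f := Over.OverMorphism.ext hfw.symm
  obtain ⟨χ, hχ⟩ := (σ.pr' (𝟙 R ≫ f)).surjective (w ≫ h)
  have := hΦx B f χ
  rw [show (L f.hom χ).toMonoidHom.comp Φ = χ from MonoidHom.ext fun m => by
    show L f.hom χ (Φ m) = χ m
    rw [hΦ1, L_single, map_one, _root_.one_mul], mul_inv_eq_iff_eq_mul] at this
  simp only [MonObj.comp_mul]
  rw [← Category.assoc w s, ew, ← Category.assoc w h, ← hχ]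
  exact this

variable {S : Scheme.{u}} {H Z N G : Over S} [GrpObj H] [GrpObj G]

/-- The inclusion of the centraliser in the normaliser is smooth. -/
theorem smooth_centralizer_to_normalizer (hH : IsMultTypeLoc H) [IsAffineHom G.hom]
    (i : H ⟶ G) [IsMonHom i] [Mono i] (j : Z ⟶ G) [IsClosedImmersion j.left] (k : N ⟶ G)
    [IsClosedImmersion k.left] (f : Z ⟶ N) (hf : f ≫ k = j) [LocallyOfFinitePresentation f.left]
    (hj : ∀ (X : Over S) (g : X ⟶ G), (∃ z : X ⟶ Z, z ≫ j = g) ↔
      ∀ (X' : Over S) (x : X' ⟶ X) (h : X' ⟶ H), (x ≫ g) * (h ≫ i) = (h ≫ i) * (x ≫ g))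
    (hk : ∀ (X : Over S) (g : X ⟶ G), (∃ z : X ⟶ N, z ≫ k = g) → Contain i i g) :
    Smooth f.left := by
  haveI : IsClosedImmersion (f.left ≫ k.left) := by rw [← Over.comp_left, hf]; infer_instance
  haveI : IsClosedImmersion f.left := IsClosedImmersion.of_comp f.left k.left
  haveI : IsAffineHom N.hom := by rw [← Over.w k]; infer_instance
  obtain ⟨S', c, hc, -, hqc, hloc⟩ := hH
  haveI := hc
  refine descend_over @Smooth f c hqc fun s' => ?_
  obtain ⟨U, hU, M, _, ⟨e⟩⟩ := hloc s'
  obtain ⟨σ⟩ := exists_split (U.ι ≫ c) M e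
  refine ⟨U, hU, fun R q => ?_⟩
  let t := q ≫ U.ι ≫ c
  haveI : IsAffine (pullback N.hom t) := isAffine_of_isAffineHom (pullback.snd N.hom t)
  have hsm : Smooth (pullback.snd f.left (𝟙 _ ≫ pullback.fst N.hom t)) := by
    refine smooth_pullback_snd_of_lifts f.left (𝟙 _) (pullback.fst N.hom t) fun B q₁ I hI z hz => ?_
    let π := CommRingCat.ofHom (Ideal.Quotient.mk I)
    let t' : Spec B ⟶ S := q₁ ≫ pullback.snd N.hom t ≫ t
    have hq : (q₁ ≫ pullback.fst N.hom t) ≫ N.hom = t' := by
      simp only [t', Category.assoc, pullback.condition]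
    let n : (Over.map t').obj (pr (𝟙 B)) ⟶ N := Over.homMk (q₁ ≫ pullback.fst N.hom t) (by
      show _ = Spec.map (𝟙 B) ≫ t'
      rw [Spec.map_id, hq]; rfl)
    let z₀ : (Over.map t').obj (pr π) ⟶ Z := Over.homMk z (by
      show z ≫ Z.hom = Spec.map π ≫ t'
      rw [← Over.w f, reassoc_of% hz, ← hq]; simp only [Category.assoc]; rfl)
    have hzn : z₀ ≫ f = (Over.map t').map (trq π (Category.id_comp _)) ≫ n := Over.OverMorphism.ext (by
      show z ≫ f.left = Spec.map π ≫ q₁ ≫ pullback.fst N.hom t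
      rw [hz, Category.assoc])
    have hc0 := (hj _ (z₀ ≫ j)).1 ⟨z₀, rfl⟩
    let σ' : Split (Red.bc t' H) (𝟙 (Spec B)) M := σ.bc t' (𝟙 _) (q₁ ≫ pullback.snd N.hom t ≫ q) (by
      simp [t', t])
    have hall := centralizes_of_reduction (H := Red.bc t' H) (G := Red.bc t' G) σ' ((Over.pullback t').map i)
      (adjEquiv t' G _ (n ≫ k)) (contain_adj t' i i _ (hk _ _ ⟨n, rfl⟩)) I ⟨2, hI⟩ (fun Y s h => by
        obtain ⟨h, rfl⟩ := (adjEquiv t' H Y).surjective h
        rw [← adjEquiv_comp, ← Category.assoc, ← adjEquiv_nat, ← map_mul, ← map_mul]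
        congr 1
        have := hc0 _ ((Over.map t').map s) h
        rw [← hf, ← Category.assoc z₀, hzn] at this
        simpa [← Category.assoc, ← Functor.map_comp] using this)
    have hz' : ∀ (X' : Over S) (x : X' ⟶ (Over.map t').obj (pr (𝟙 B))) (h : X' ⟶ H),
        (x ≫ n ≫ k) * (h ≫ i) = (h ≫ i) * (x ≫ n ≫ k) := fun X' x h => by
      let Y : Over (Spec B) := Over.mk (x.left ≫ (pr (𝟙 B)).hom)
      let io : (Over.map t').obj Y ≅ X' := Over.isoMk (Iso.refl _) (by
        show 𝟙 _ ≫ X'.hom = (x.left ≫ (pr (𝟙 B)).hom) ≫ t'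
        rw [Category.id_comp, Category.assoc]
        exact (Over.w x).symm)
      let x' : Y ⟶ pr (𝟙 B) := Over.homMk x.left rfl
      have hx : (Over.map t').map x' = io.hom ≫ x := Over.OverMorphism.ext (Category.id_comp _).symm
      have := hall Y x' (adjEquiv t' H Y (io.hom ≫ h))
      rw [← adjEquiv_comp, ← adjEquiv_nat, ← map_mul, ← map_mul] at this
      have e' := (adjEquiv t' G Y).injective this
      rw [hx, Category.assoc, Category.assoc, ← MonObj.comp_mul, ← MonObj.comp_mul] at e'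
      exact (cancel_epi io.hom).1 e'
    obtain ⟨w, hw⟩ := (hj _ (n ≫ k)).2 hz'
    have hwn : w ≫ f = n := by
      apply Over.OverMorphism.ext
      rw [← cancel_mono k.left]
      exact congrArg CommaMorphism.left (show (w ≫ f) ≫ k = n ≫ k by rw [Category.assoc, hf, hw])
    refine ⟨w.left, congrArg CommaMorphism.left hwn, ?_⟩
    rw [← cancel_mono f.left, Category.assoc]
    show Spec.map π ≫ (w ≫ f).left = z ≫ f.left
    rw [hwn, hz, Category.assoc]
    rfl
  have sq : IsPullback (pullback.fst Z.hom t) ((Over.pullback t).map f).left f.left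
      (𝟙 _ ≫ pullback.fst N.hom t) := by
    rw [Category.id_comp]; exact isPullback_bc t f
  have := (MorphismProperty.cancel_left_of_respectsIso @Smooth sq.isoPullback.hom _).2 hsm
  show Smooth ((Over.pullback t).map f).left
  exact sq.isoPullback_hom_snd ▸ this

end Groth.Agent.FixedSmooth
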