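import Groth.Agent.FixedSmooth.HomLift
/-!
Monomorphisms from groups of multiplicative type into affine groups are closed immersions.
-/

set_option autoImplicit false
set_option backward.isDefEq.respectTransparency false
set_option backward.isDefEq.respectTransparency.types false
set_option linter.style.haveILetI false

universe u

open CategoryTheory CategoryTheory.Limits MonoidalCategory CartesianMonoidalCategory MonObj AlgebraicGeometry

noncomputable section

namespace Groth.Agent.FixedSmooth

section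
variable {B : Type u} [CommRing B] {A : Type} [CommGroup A]

open MonoidAlgebra

theorem coeff_D (w : MonoidAlgebra B A) (k : A) :
    (L ((singleOneRingHom : MonoidAlgebra B A →+* MonoidAlgebra (MonoidAlgebra B A) A).comp singleOneRingHom)
      (of (MonoidAlgebra B A) A *
        ((singleOneRingHom : MonoidAlgebra B A →+* MonoidAlgebra (MonoidAlgebra B A) A).toMonoidHom.comp (of B A)))
      w).coeff k = single k (w.coeff k) := by
  induction w using MonoidAlgebra.induction_linear with
  | zero => simp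
  | add a b ha hb => simp only [map_add, coeff_add, Finsupp.add_apply, ha, hb, single_add]
  | single m r =>
    simp only [L_single, RingHom.coe_comp, Function.comp_apply, MonoidHom.mul_apply, MonoidHom.coe_comp,
      RingHom.toMonoidHom_eq_coe, MonoidHom.coe_coe, of_apply, singleOneRingHom_apply, single_mul_single, one_mul,
      mul_one, coeff_single]
    by_cases hm : m = k
    · subst hm; simp
    · simp [Finsupp.single_apply, hm]

/-- A ring of group-algebra elements containing the constants, stable under homogeneous components and under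
inversion, that separates characters, is everything. -/
theorem eq_top_of_separates (V : Subring (MonoidAlgebra B A)) (hconst : ∀ r : B, single 1 r ∈ V)
    (hcomp : ∀ v ∈ V, ∀ k, single k (v.coeff k) ∈ V)
    (hinv : ∀ v ∈ V, L singleOneRingHom ((of B A).comp invMonoidHom) v ∈ V)
    (hsep : ∀ {T : Type u} [CommRing T] (f : B →+* T) (χ : A →* T), (∀ v ∈ V, L f χ v = L f 1 v) → χ = 1) :
    V = ⊤ := by
  have hJ : ∀ k, ∀ b : B, ∀ x ∈ {a : B | single k a ∈ V}, b * x ∈ {a : B | single k a ∈ V} := fun k b x hx => by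
    show single k (b * x) ∈ V
    have := V.mul_mem (hconst b) hx
    rwa [single_mul_single, _root_.one_mul] at this
  let J : A → Ideal B := fun k =>
    { carrier := {a | single k a ∈ V}
      zero_mem' := by
        show single k (0 : B) ∈ V
        rw [single_zero]; exact V.zero_mem
      add_mem' := fun {a b} ha hb => by
        show single k (a + b) ∈ V
        rw [single_add]; exact V.add_mem ha hb
      smul_mem' := fun b x hx => hJ k b x hx }
  suffices h : ∀ k, J k = ⊤ by
    rw [eq_top_iff]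
    rintro v -
    induction v using MonoidAlgebra.induction_linear with
    | zero => exact V.zero_mem
    | add a b ha hb => exact V.add_mem ha hb
    | single k a => exact (show a ∈ J k by rw [h k]; trivial)
  intro k
  by_contra hk
  obtain ⟨𝔪, h𝔪, hle⟩ := Ideal.exists_le_maximal _ hk
  let q := Ideal.Quotient.mk 𝔪
  haveI : 𝔪.IsMaximal := h𝔪
  let M' : Subgroup A :=
    { carrier := {m | ∃ a ∈ J m, a ∉ 𝔪}
      one_mem' := ⟨1, hconst 1, fun h => h𝔪.ne_top ((Ideal.eq_top_iff_one _).2 h)⟩
      mul_mem' := by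
        rintro m n ⟨a, ha, ha'⟩ ⟨b, hb, hb'⟩
        refine ⟨a * b, ?_, fun h => ?_⟩
        · show single (m * n) (a * b) ∈ V
          rw [← single_mul_single]; exact V.mul_mem ha hb
        · rcases h𝔪.isPrime.mem_or_mem h with h | h
          · exact ha' h
          · exact hb' h
      inv_mem' := by
        rintro m ⟨a, ha, ha'⟩
        refine ⟨a, ?_, ha'⟩
        show single m⁻¹ a ∈ V
        have := hinv (single m a) ha
        simpa using this }
  let f : B →+* MonoidAlgebra (B ⧸ 𝔪) (A ⧸ M') := singleOneRingHom.comp q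
  let χ : A →* MonoidAlgebra (B ⧸ 𝔪) (A ⧸ M') := (of (B ⧸ 𝔪) (A ⧸ M')).comp (QuotientGroup.mk' M')
  have hk' : χ = 1 := hsep f χ fun v hv => by
    classical
    rw [← sum_single v, Finsupp.sum, map_sum, map_sum]
    refine Finset.sum_congr rfl fun m _ => ?_
    rw [L_single, L_single]
    by_cases hm : m ∈ M'
    · have : (m : A ⧸ M') = 1 := (QuotientGroup.eq_one_iff m).2 hm
      simp [χ, this, ← MonoidAlgebra.one_def]
    · have : v.coeff m ∈ 𝔪 := by
        by_contra h
        exact hm ⟨_, hcomp v hv m, h⟩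
      have hz : f (v.coeff m) = 0 := by
        show singleOneRingHom (q (v.coeff m)) = 0
        rw [Ideal.Quotient.eq_zero_iff_mem.2 this, map_zero]
      rw [hz, zero_mul, zero_mul]
  have hmk : (k : A ⧸ M') = 1 := by
    have := DFunLike.congr_fun hk' k
    simp only [χ, MonoidHom.coe_comp, Function.comp_apply, of_apply, QuotientGroup.mk'_apply, MonoidHom.one_apply,
      MonoidAlgebra.one_def] at this
    exact single_left_injective (one_ne_zero (α := B ⧸ 𝔪)) this
  obtain ⟨a, ha, ha'⟩ := (QuotientGroup.eq_one_iff k).1 hmk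
  exact ha' (hle ha)

end

variable {R : CommRingCat.{u}} {H G : Over (Spec R)} [GrpObj H] [GrpObj G] {M : Type} [AddCommGroup M]

/-- Over an affine base, a monomorphism from a split group into an affine group is a closed immersion. -/
theorem isClosedImmersion_of_split (σ : Split H (𝟙 (Spec R)) M) [IsAffine H.left] [IsAffine G.left]
    (i : H ⟶ G) [IsMonHom i] [Mono i] : IsClosedImmersion i.left := by
  let BM : CommRingCat.{u} := CommRingCat.of (MonoidAlgebra R (Multiplicative M))
  let s1 : R ⟶ BM := CommRingCat.ofHom MonoidAlgebra.singleOneRingHom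
  let χu : Multiplicative M →* BM := MonoidAlgebra.of R (Multiplicative M)
  let u₁ : pr s1 ⟶ H := σ.pr' s1 χu
  -- `u₁` is an isomorphism
  haveI : IsIso u₁.left := by
    obtain ⟨f₀, hf₀⟩ := exists_pr (H.left.isoSpec.inv ≫ H.hom)
    let j : pr f₀ ⟶ H := Over.homMk H.left.isoSpec.inv hf₀.symm
    obtain ⟨χ₀, hχ₀⟩ := (σ.pr' f₀).surjective j
    let g : BM ⟶ Γ(H.left, ⊤) := CommRingCat.ofHom (L f₀.hom χ₀)
    have hg : s1 ≫ g = f₀ := CommRingCat.hom_ext (L_comp_single f₀.hom χ₀)
    have e1 : trq g hg ≫ u₁ = j := by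
      rw [σ.pr'_nat', ← hχ₀]
      congr 1
      exact L_comp_of f₀.hom χ₀
    let g' : Γ(H.left, ⊤) ⟶ BM := Spec.preimage (u₁.left ≫ H.left.isoSpec.hom)
    have hg' : Spec.map g' = u₁.left ≫ H.left.isoSpec.hom := Spec.map_preimage _
    have hfg : f₀ ≫ g' = s1 := Spec.map_injective (by
      rw [Spec.map_comp, hg', hf₀, Category.assoc, Iso.hom_inv_id_assoc]
      exact Over.w u₁)
    have e2 : trq g' hfg ≫ j = u₁ := Over.OverMorphism.ext (by
      show Spec.map g' ≫ H.left.isoSpec.inv = u₁.left
      rw [hg', Category.assoc, Iso.hom_inv_id, Category.comp_id])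
    rw [← hχ₀, σ.pr'_nat'] at e2
    have hχ : g'.hom.toMonoidHom.comp χ₀ = χu := (σ.pr' s1).injective e2
    have hgg : g ≫ g' = 𝟙 BM := CommRingCat.hom_ext (by
      show g'.hom.comp (L f₀.hom χ₀) = RingHom.id _
      rw [comp_L, hχ]
      refine MonoidAlgebra.ringHom_ext (fun c => ?_) (fun m => ?_)
      · simp only [L_single, map_one, _root_.mul_one, RingHom.id_apply]
        exact congrArg (fun z => z.hom c) hfg
      · simp [χu]; rfl)
    refine ⟨⟨H.left.isoSpec.hom ≫ Spec.map g, ?_, ?_⟩⟩
    · rw [← Category.assoc, ← hg', ← Spec.map_comp, hgg, Spec.map_id]; rfl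
    · rw [Category.assoc]
      have := congrArg CommaMorphism.left e1
      exact (congrArg (H.left.isoSpec.hom ≫ ·) this).trans (Iso.hom_inv_id _)
  suffices h : IsClosedImmersion (u₁ ≫ i).left by
    exact (MorphismProperty.cancel_left_of_respectsIso @IsClosedImmersion u₁.left i.left).1 h
  obtain ⟨fG, hfG⟩ := exists_pr (G.left.isoSpec.inv ≫ G.hom)
  let ψ : Γ(G.left, ⊤) ⟶ BM := Spec.preimage ((u₁ ≫ i).left ≫ G.left.isoSpec.hom)
  have hψ : Spec.map ψ = (u₁ ≫ i).left ≫ G.left.isoSpec.hom := Spec.map_preimage _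
  suffices hs : Function.Surjective ψ.hom by
    haveI := IsClosedImmersion.spec_of_surjective ψ hs
    have : (u₁ ≫ i).left = Spec.map ψ ≫ G.left.isoSpec.inv := by
      rw [hψ, Category.assoc, Iso.hom_inv_id, Category.comp_id]
    rw [this]
    infer_instance
  have hψR : fG ≫ ψ = s1 := Spec.map_injective (by
    rw [Spec.map_comp, hψ, hfG, Category.assoc, Iso.hom_inv_id_assoc]
    exact Over.w (u₁ ≫ i))
  -- classifying maps of points of `G`
  let cl : ∀ {B : CommRingCat.{u}} {f : R ⟶ B}, (pr f ⟶ G) → (Γ(G.left, ⊤) ⟶ B) := fun x =>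
    Spec.preimage (x.left ≫ G.left.isoSpec.hom)
  have cl_nat : ∀ {B B' : CommRingCat.{u}} {f : R ⟶ B} {f' : R ⟶ B'} (g : B ⟶ B') (e : f ≫ g = f')
      (x : pr f ⟶ G), cl (trq g e ≫ x) = cl x ≫ g := fun g e x => Spec.map_injective (by
    rw [Spec.map_comp]
    simp only [cl, Spec.map_preimage, Over.comp_left, Over.homMk_left, Category.assoc])
  have cl_pt : ∀ {B : CommRingCat.{u}} (f : R ⟶ B) (χ : Multiplicative M →* B),
      cl (σ.pr' f χ ≫ i) = ψ ≫ CommRingCat.ofHom (L f.hom χ) := fun {B} f χ => by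
    have hg : s1 ≫ CommRingCat.ofHom (L f.hom χ) = f := CommRingCat.hom_ext (L_comp_single f.hom χ)
    have : σ.pr' f χ = trq (CommRingCat.ofHom (L f.hom χ)) hg ≫ u₁ := by
      rw [σ.pr'_nat']
      congr 1
      exact (L_comp_of f.hom χ).symm
    rw [this, Category.assoc, cl_nat]
  let V : Subring (MonoidAlgebra R (Multiplicative M)) := ψ.hom.range
  suffices h : V = ⊤ from fun y => RingHom.mem_range.1 (show y ∈ V by rw [h]; trivial)
  have hconst : ∀ r : R, MonoidAlgebra.single 1 r ∈ V := fun r => ⟨fG r, congrArg (fun z => z.hom r) hψR⟩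
  let cV : R →+* V := (MonoidAlgebra.singleOneRingHom).codRestrict V hconst
  let VC : CommRingCat.{u} := CommRingCat.of V
  let ψV : Γ(G.left, ⊤) ⟶ VC := CommRingCat.ofHom ψ.hom.rangeRestrict
  let incl : VC ⟶ BM := CommRingCat.ofHom V.subtype
  have hψV : ψV ≫ incl = ψ := rfl
  let fV : R ⟶ VC := CommRingCat.ofHom cV
  have hfV : fV ≫ incl = s1 := rfl
  have hfGV : fG ≫ ψV = fV := CommRingCat.hom_ext (RingHom.ext fun r =>
    Subtype.ext (congrArg (fun z => z.hom r) hψR))
  let xV : pr fV ⟶ G := Over.homMk (Spec.map ψV ≫ G.left.isoSpec.inv) (by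
    show (Spec.map ψV ≫ G.left.isoSpec.inv) ≫ G.hom = Spec.map fV
    rw [Category.assoc, ← hfG, ← Spec.map_comp, hfGV])
  have hxV : trq incl hfV ≫ xV = u₁ ≫ i := Over.OverMorphism.ext (by
    show Spec.map incl ≫ Spec.map ψV ≫ G.left.isoSpec.inv = (u₁ ≫ i).left
    rw [← Category.assoc, ← Spec.map_comp, hψV, hψ, Category.assoc, Iso.hom_inv_id, Category.comp_id])
  refine eq_top_of_separates V hconst ?_ ?_ ?_
  · rintro _ ⟨a, rfl⟩ k
    let BMM : CommRingCat.{u} := CommRingCat.of (MonoidAlgebra BM (Multiplicative M))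
    let VM : CommRingCat.{u} := CommRingCat.of (MonoidAlgebra V (Multiplicative M))
    let s2 : BM ⟶ BMM := CommRingCat.ofHom MonoidAlgebra.singleOneRingHom
    let sV : VC ⟶ VM := CommRingCat.ofHom MonoidAlgebra.singleOneRingHom
    let inclM : VM ⟶ BMM := CommRingCat.ofHom (MonoidAlgebra.mapRingHom _ V.subtype)
    let fM : R ⟶ VM := fV ≫ sV
    have hM : fM ≫ inclM = s1 ≫ s2 := CommRingCat.hom_ext (RingHom.ext fun r =>
      MonoidAlgebra.mapRingHom_single (f := V.subtype) 1 (cV r))
    let χ₂ : Multiplicative M →* BMM := MonoidAlgebra.of BM (Multiplicative M)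
    let χ₁ : Multiplicative M →* BMM := s2.hom.toMonoidHom.comp χu
    let a₁ : pr fM ⟶ G := trq sV rfl ≫ xV
    let a₂ : pr fM ⟶ G := σ.pr' fM (MonoidAlgebra.of V (Multiplicative M)) ≫ i
    have e₁ : trq inclM hM ≫ a₁ = σ.pr' (s1 ≫ s2) χ₁ ≫ i := by
      rw [show σ.pr' (s1 ≫ s2) χ₁ = trq s2 rfl ≫ u₁ from (σ.pr'_nat' s2 rfl χu).symm, Category.assoc, ← hxV]
      apply Over.OverMorphism.ext
      show Spec.map inclM ≫ Spec.map sV ≫ xV.left = Spec.map s2 ≫ Spec.map incl ≫ xV.left
      rw [← Category.assoc, ← Spec.map_comp, ← Category.assoc, ← Spec.map_comp]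
      congr 2
      exact CommRingCat.hom_ext (RingHom.ext fun v => MonoidAlgebra.mapRingHom_single (f := V.subtype) 1 v)
    have e₂ : trq inclM hM ≫ a₂ = σ.pr' (s1 ≫ s2) χ₂ ≫ i := by
      rw [show trq inclM hM ≫ a₂ = (trq inclM hM ≫ σ.pr' fM _) ≫ i from (Category.assoc _ _ _).symm, σ.pr'_nat']
      congr 2
      refine MonoidHom.ext fun m => ?_
      show MonoidAlgebra.mapRingHom _ V.subtype (MonoidAlgebra.single m (1 : V)) =
        MonoidAlgebra.single m (1 : BM)
      rw [MonoidAlgebra.mapRingHom_single, map_one]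
    have hprod : σ.pr' (s1 ≫ s2) (χ₂ * χ₁) ≫ i = trq inclM hM ≫ (a₂ * a₁) := by
      rw [map_mul, MonObj.mul_comp, MonObj.comp_mul, e₁, e₂]
    have := congrArg cl hprod
    rw [cl_pt, cl_nat] at this
    have h2 := congrArg (fun z => (z.hom a).coeff k) this
    simp only [CommRingCat.hom_comp, CommRingCat.hom_ofHom, RingHom.comp_apply, inclM] at h2
    rw [MonoidAlgebra.coeff_mapRingHom] at h2
    have h3 := (coeff_D (ψ.hom a) k).symm.trans h2
    rw [h3]
    exact SetLike.coe_mem _
  · rintro _ ⟨a, rfl⟩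
    have := congrArg cl (show σ.pr' s1 (χu.comp invMonoidHom) ≫ i = trq incl hfV ≫ xV⁻¹ by
      rw [GrpObj.comp_inv, hxV]
      refine eq_inv_of_mul_eq_one_left ?_
      rw [← MonObj.mul_comp, ← map_mul, show χu.comp invMonoidHom * χu = 1 from MonoidHom.ext fun m => by
        simp [χu, ← map_mul], map_one, MonObj.one_comp])
    rw [cl_pt, cl_nat] at this
    have h2 := congrArg (fun z => z.hom a) this
    simp only [CommRingCat.hom_comp, CommRingCat.hom_ofHom, RingHom.comp_apply, incl] at h2
    refine (congrArg (· ∈ V) h2).mpr ?_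
    exact SetLike.coe_mem _
  · intro T _ f χ h
    let fT : R ⟶ CommRingCat.of T := CommRingCat.ofHom f
    have : σ.pr' fT χ ≫ i = σ.pr' fT 1 ≫ i := by
      apply Over.OverMorphism.ext
      rw [← cancel_mono G.left.isoSpec.hom]
      rw [← Spec.map_preimage ((σ.pr' fT χ ≫ i).left ≫ _), ← Spec.map_preimage ((σ.pr' fT 1 ≫ i).left ≫ _)]
      congr 1
      show cl _ = cl _
      rw [cl_pt, cl_pt]
      exact CommRingCat.hom_ext (RingHom.ext fun a => h _ ⟨a, rfl⟩)
    exact (σ.pr' fT).injective ((cancel_mono i).1 this)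

/-- A monomorphism from a group of multiplicative type into an affine group is a closed immersion. -/
theorem isClosedImmersion_of_isMultTypeLoc {S : Scheme.{u}} {H G : Over S} [GrpObj H] [GrpObj G]
    (hH : WeilClosedLib.IsMultTypeLoc H) [IsAffineHom G.hom] (i : H ⟶ G) [IsMonHom i] [Mono i] :
    IsClosedImmersion i.left := by
  haveI := FpqcDesc.isClosedImmersion_descends.{u}
  haveI := isAffineHom_of_isMultTypeLoc hH
  obtain ⟨S', c, hc, -, hqc, hloc⟩ := hH
  haveI := hc
  refine descend_over @IsClosedImmersion i c hqc fun s' => ?_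
  obtain ⟨U, hU, M, _, ⟨e⟩⟩ := hloc s'
  obtain ⟨σ⟩ := exists_split (U.ι ≫ c) M e
  refine ⟨U, hU, fun R q => ?_⟩
  let t := q ≫ U.ι ≫ c
  haveI : IsAffineHom (Red.bc t H).hom := MorphismProperty.pullback_snd (P := @IsAffineHom) _ _ ‹_›
  haveI : IsAffineHom (Red.bc t G).hom := MorphismProperty.pullback_snd (P := @IsAffineHom) _ _ ‹_›
  haveI : IsAffine (Red.bc t H).left := isAffine_of_isAffineHom (Red.bc t H).hom
  haveI : IsAffine (Red.bc t G).left := isAffine_of_isAffineHom (Red.bc t G).hom
  exact isClosedImmersion_of_split (σ.bc t (𝟙 _) q (by simp [t])) ((Over.pullback t).map i)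

end Groth.Agent.FixedSmooth
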