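import Groth.Agent.FixedSmooth.Split
import Groth.Agent.FixedSmooth.CoreAlg
/-!
Fixed points of a split diagonalisable group on a smooth affine scheme lift.
-/

set_option autoImplicit false
set_option backward.isDefEq.respectTransparency false
set_option backward.isDefEq.respectTransparency.types false
set_option linter.style.haveILetI false

universe u

open CategoryTheory CategoryTheory.Limits MonoidalCategory CartesianMonoidalCategory MonObj AlgebraicGeometry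

noncomputable section

namespace Groth.Agent.FixedSmooth

variable {S : Scheme.{u}} {H G : Over S} [GrpObj H]

/-- A point is fixed by all points of `H` over it. -/
def IsFixed (act : H ⊗ G ⟶ G) {X : Over S} (x : X ⟶ G) : Prop :=
  ∀ (X' : Over S) (s : X' ⟶ X) (h : X' ⟶ H), lift h (s ≫ x) ≫ act = s ≫ x

variable {U : Scheme.{u}} {b : U ⟶ S} {M : Type} [AddCommGroup M]

/-- Acting by a character on a point. -/
def Aw (σ : Split H b M) (act : H ⊗ G ⟶ G) {B : CommRingCat.{u}} (p : Spec B ⟶ U) (z : Spec B ⟶ G.left)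
    (hz : z ≫ G.hom = p ≫ b) (χ : Multiplicative M →* B) : Spec B ⟶ G.left :=
  (lift (σ.pt B p χ) (Over.homMk z hz) ≫ act).left

theorem Aw_congr (σ : Split H b M) (act : H ⊗ G ⟶ G) {B : CommRingCat.{u}} {p p' : Spec B ⟶ U}
    {z z' : Spec B ⟶ G.left}
    (hz : z ≫ G.hom = p ≫ b) (hz' : z' ≫ G.hom = p' ≫ b) (χ : Multiplicative M →* B) (ep : p = p') (ez : z = z') :
    Aw σ act p z hz χ = Aw σ act p' z' hz' χ := by
  subst ep ez; rfl

theorem Aw_w (σ : Split H b M) (act : H ⊗ G ⟶ G) {B : CommRingCat.{u}} (p : Spec B ⟶ U) (z : Spec B ⟶ G.left)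
    (hz : z ≫ G.hom = p ≫ b) (χ : Multiplicative M →* B) : Aw σ act p z hz χ ≫ G.hom = p ≫ b :=
  Over.w (lift (σ.pt B p χ) (Over.homMk z hz) ≫ act)

theorem Aw_nat (σ : Split H b M) (act : H ⊗ G ⟶ G) {B B' : CommRingCat.{u}} (g : B ⟶ B') (p : Spec B ⟶ U)
    (z : Spec B ⟶ G.left) (hz : z ≫ G.hom = p ≫ b) (χ : Multiplicative M →* B) :
    Spec.map g ≫ Aw σ act p z hz χ =
      Aw σ act (Spec.map g ≫ p) (Spec.map g ≫ z) (by rw [Category.assoc, hz, Category.assoc])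
        (g.hom.toMonoidHom.comp χ) := by
  have : tr b p g ≫ lift (σ.pt B p χ) (Over.homMk z hz) =
      lift (σ.pt B' (Spec.map g ≫ p) (g.hom.toMonoidHom.comp χ))
        (Over.homMk (Spec.map g ≫ z) (by
          show (Spec.map g ≫ z) ≫ G.hom = _
          rw [Category.assoc, hz]; simp)) := by
    rw [comp_lift, σ.nat]
    congr 1
  show (tr b p g).left ≫ (lift (σ.pt B p χ) (Over.homMk z hz) ≫ act).left = _
  rw [← Over.comp_left, ← Category.assoc, this]
  rfl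

/-- Fixed points over a square-zero thickening lift. -/
theorem exists_fixed_lift [IsAffineHom G.hom] [Smooth G.hom] (act : H ⊗ G ⟶ G)
    (hact : ∀ (X : Over S) (h h' : X ⟶ H) (x : X ⟶ G),
      lift h (lift h' x ≫ act) ≫ act = lift (h * h') x ≫ act)
    (σ : Split H b M) (B : CommRingCat.{u}) (q : Spec B ⟶ U) (N : Ideal B) (hN : N ^ 2 = ⊥)
    (x₀ : Over.mk ((Spec.map (CommRingCat.ofHom (Ideal.Quotient.mk N)) ≫ q) ≫ b) ⟶ G) (h₀ : IsFixed act x₀) :
    ∃ x : Over.mk (q ≫ b) ⟶ G, IsFixed act x ∧ tr b q (CommRingCat.ofHom (Ideal.Quotient.mk N)) ≫ x = x₀ := by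
  let P := pullback G.hom (q ≫ b)
  haveI : IsAffine P := isAffine_of_isAffineHom (pullback.snd G.hom (q ≫ b))
  let C := Γ(P, ⊤)
  let κ : Spec C ⟶ P := P.isoSpec.inv
  let iC : B ⟶ C := Spec.preimage (κ ≫ pullback.snd G.hom (q ≫ b))
  have hiC : Spec.map iC = κ ≫ pullback.snd G.hom (q ≫ b) := Spec.map_preimage _
  let xu : Spec C ⟶ G.left := κ ≫ pullback.fst G.hom (q ≫ b)
  have hxu : xu ≫ G.hom = (Spec.map iC ≫ q) ≫ b := by
    simp only [xu, hiC, Category.assoc, pullback.condition]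
  have hsm : iC.hom.FormallySmooth := by
    haveI : Smooth (pullback.snd G.hom (q ≫ b)) := MorphismProperty.pullback_snd _ _ ‹Smooth G.hom›
    haveI : Smooth (Spec.map iC) := by rw [hiC]; infer_instance
    exact ((HasRingHomProperty.Spec_iff (P := @Smooth)).1 ‹_›).formallySmooth
  -- existence and uniqueness of the classifying map
  have hex : ∀ {B' : CommRingCat.{u}} (f : B ⟶ B') (z : Spec B' ⟶ G.left), z ≫ G.hom = (Spec.map f ≫ q) ≫ b →
      ∃ φ : C ⟶ B', iC ≫ φ = f ∧ Spec.map φ ≫ xu = z := fun {B'} f z hz => by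
    let l : Spec B' ⟶ P := pullback.lift z (Spec.map f) (by rw [hz, Category.assoc])
    refine ⟨Spec.preimage (l ≫ P.isoSpec.hom), Spec.map_injective ?_, ?_⟩
    · simp [hiC, κ, l]
    · simp [xu, κ, l]
  have huniq : ∀ {B' : CommRingCat.{u}} (φ ψ : C ⟶ B'), iC ≫ φ = iC ≫ ψ → Spec.map φ ≫ xu = Spec.map ψ ≫ xu →
      φ = ψ := fun {B'} φ ψ h1 h2 => by
    apply Spec.map_injective
    rw [← cancel_mono κ]
    apply pullback.hom_ext
    · simpa [xu] using h2
    · have := congrArg Spec.map h1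
      simpa [Spec.map_comp, hiC] using this
  -- the universal action
  let CM : CommRingCat.{u} := CommRingCat.of (MonoidAlgebra C (Multiplicative M))
  let s1 : C ⟶ CM := CommRingCat.ofHom MonoidAlgebra.singleOneRingHom
  let pp : ∀ {B' : CommRingCat.{u}} (φ : C ⟶ B'), Spec B' ⟶ U := fun φ => Spec.map φ ≫ Spec.map iC ≫ q
  have hpp : ∀ {B' : CommRingCat.{u}} (φ : C ⟶ B'), (Spec.map φ ≫ xu) ≫ G.hom = pp φ ≫ b := fun φ => by
    simp only [pp, Category.assoc] at hxu ⊢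
    rw [hxu]
  let A : ∀ {B' : CommRingCat.{u}} (φ : C ⟶ B'), (Multiplicative M →* B') → (Spec B' ⟶ G.left) :=
    fun φ χ => Aw σ act (pp φ) (Spec.map φ ≫ xu) (hpp φ) χ
  obtain ⟨ρ, hρ₁, hρ₂⟩ := hex (iC ≫ s1) (A s1 (MonoidAlgebra.of C (Multiplicative M))) (by
    rw [Aw_w]; simp [pp])
  let Lh : ∀ {B' : CommRingCat.{u}}, (C ⟶ B') → (Multiplicative M →* B') → (CM ⟶ B') :=
    fun φ χ => CommRingCat.ofHom (L φ.hom χ)
  have hs1 : ∀ {B' : CommRingCat.{u}} (φ : C ⟶ B') (χ : Multiplicative M →* B'), s1 ≫ Lh φ χ = φ := fun φ χ =>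
    CommRingCat.hom_ext (L_comp_single φ.hom χ)
  have hLi : ∀ {B' : CommRingCat.{u}} (φ : C ⟶ B') (χ : Multiplicative M →* B'), iC ≫ ρ ≫ Lh φ χ = iC ≫ φ :=
    fun φ χ => by rw [reassoc_of% hρ₁, hs1]
  have key : ∀ {B' : CommRingCat.{u}} (φ : C ⟶ B') (χ : Multiplicative M →* B'),
      Spec.map (ρ ≫ Lh φ χ) ≫ xu = A φ χ := fun φ χ => by
    rw [Spec.map_comp, Category.assoc, hρ₂]
    show Spec.map _ ≫ Aw σ act _ _ _ _ = _
    rw [Aw_nat]
    have : (Lh φ χ).hom.toMonoidHom.comp (MonoidAlgebra.of C (Multiplicative M)) = χ := L_comp_of φ.hom χ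
    rw [this]
    apply Aw_congr
    · simp only [pp]; rw [← Category.assoc, ← Spec.map_comp, hs1]
    · rw [← Category.assoc, ← Spec.map_comp, hs1]
  have hppi : ∀ {B' : CommRingCat.{u}} {φ ψ : C ⟶ B'}, iC ≫ φ = iC ≫ ψ → pp φ = pp ψ := fun {B'} φ ψ h => by
    show Spec.map φ ≫ Spec.map iC ≫ q = Spec.map ψ ≫ Spec.map iC ≫ q
    rw [← Category.assoc, ← Spec.map_comp, h, Spec.map_comp, Category.assoc]
  -- associativity
  let CMM : CommRingCat.{u} := CommRingCat.of (MonoidAlgebra CM (Multiplicative M))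
  let s2 : CM ⟶ CMM := CommRingCat.ofHom MonoidAlgebra.singleOneRingHom
  let χ₂ : Multiplicative M →* CMM := MonoidAlgebra.of CM (Multiplicative M)
  let χ₁ : Multiplicative M →* CMM := s2.hom.toMonoidHom.comp (MonoidAlgebra.of C (Multiplicative M))
  have hassoc : ρ ≫ Lh (ρ ≫ s2) χ₂ = ρ ≫ Lh (s1 ≫ s2) (χ₂ * χ₁) := by
    have hi : iC ≫ ρ ≫ s2 = iC ≫ s1 ≫ s2 := by rw [reassoc_of% hρ₁]
    refine huniq _ _ (by rw [hLi, hLi, hi]) ?_
    rw [key, key]
    show (lift (σ.pt CMM (pp (ρ ≫ s2)) χ₂) _ ≫ act).left = _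
    have h1 : Spec.map (ρ ≫ s2) ≫ xu = A (s1 ≫ s2) χ₁ := by
      rw [Spec.map_comp, Category.assoc, hρ₂]
      show Spec.map _ ≫ Aw σ act _ _ _ _ = _
      rw [Aw_nat]
      apply Aw_congr
      · simp only [pp]; rw [Spec.map_comp, Category.assoc]
      · rw [Spec.map_comp, Category.assoc]
    have hA : A (ρ ≫ s2) χ₂ = Aw σ act (pp (s1 ≫ s2)) (A (s1 ≫ s2) χ₁) (Aw_w _ _ _ _ _ _) χ₂ :=
      Aw_congr σ act _ _ _ (hppi hi) h1
    show A (ρ ≫ s2) χ₂ = A (s1 ≫ s2) (χ₂ * χ₁)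
    rw [hA]
    show (lift (σ.pt CMM (pp (s1 ≫ s2)) χ₂) (Over.homMk _ _) ≫ act).left = (lift _ _ ≫ act).left
    rw [map_mul, ← hact]
    rfl
  -- the point modulo N
  let π := CommRingCat.ofHom (Ideal.Quotient.mk N)
  obtain ⟨φ₀, hφ₀i, hφ₀x⟩ := hex π x₀.left (Over.w x₀)
  let B₀M : CommRingCat.{u} := CommRingCat.of (MonoidAlgebra (B ⧸ N) (Multiplicative M))
  let t1 : CommRingCat.of (B ⧸ N) ⟶ B₀M := CommRingCat.ofHom MonoidAlgebra.singleOneRingHom
  have hfix : ρ ≫ Lh (φ₀ ≫ t1) (MonoidAlgebra.of (B ⧸ N) (Multiplicative M)) = φ₀ ≫ t1 := by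
    refine huniq _ _ (hLi _ _) ?_
    rw [key]
    let s : Over.mk (pp (φ₀ ≫ t1) ≫ b) ⟶ Over.mk ((Spec.map π ≫ q) ≫ b) := Over.homMk (Spec.map t1) (by
      show Spec.map t1 ≫ (Spec.map π ≫ q) ≫ b = pp (φ₀ ≫ t1) ≫ b
      simp only [pp, ← hφ₀i, Spec.map_comp, Category.assoc])
    have := h₀ _ s (σ.pt B₀M (pp (φ₀ ≫ t1)) (MonoidAlgebra.of (B ⧸ N) (Multiplicative M)))
    have hsx : s ≫ x₀ = Over.homMk (Spec.map (φ₀ ≫ t1) ≫ xu) (hpp (φ₀ ≫ t1)) := by
      apply Over.OverMorphism.ext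
      show Spec.map t1 ≫ x₀.left = Spec.map (φ₀ ≫ t1) ≫ xu
      simp only [Spec.map_comp, Category.assoc]
      exact congrArg (Spec.map t1 ≫ ·) hφ₀x.symm
    rw [hsx] at this
    exact congrArg CommaMorphism.left this
  -- lift
  letI : Algebra B C := iC.hom.toAlgebra
  haveI : Algebra.FormallySmooth B C := hsm
  let g : C →ₐ[B] B ⧸ N := { φ₀.hom with commutes' := fun r => by exact congrArg (fun m => m.hom r) hφ₀i }
  obtain ⟨φl, hφl⟩ := Algebra.FormallySmooth.exists_lift (A := C) N ⟨2, hN⟩ g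
  have hmk : (Ideal.Quotient.mk N).comp φl.toRingHom = φ₀.hom := congrArg AlgHom.toRingHom hφl
  obtain ⟨φ', hφ'1, hφ'2, hφ'3, -⟩ := exists_avg (B := B) ρ.hom (fun c => by
    have := congrArg (fun m => m.hom c) hassoc
    simp only [CommRingCat.hom_comp, RingHom.comp_apply, Lh, CommRingCat.hom_ofHom] at this
    refine Eq.trans ?_ this
    show _ = L (s2.hom.comp ρ.hom) χ₂ (ρ.hom c)
    exact RingHom.congr_fun (L_single_of (G := Multiplicative M) ρ.hom).symm _) φl.toRingHom hN (by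
    rw [hmk]
    have := congrArg CommRingCat.Hom.hom hfix
    simp only [CommRingCat.hom_comp, Lh, CommRingCat.hom_ofHom] at this
    rw [← L_single_of]
    exact this)
  have hφ'i : iC ≫ CommRingCat.ofHom φ' = 𝟙 B := CommRingCat.hom_ext (RingHom.ext fun r => by
    show φ' (iC r) = r
    refine (hφ'2 (iC.hom r) (congrArg (fun m => m.hom r) hρ₁)).trans ?_
    exact φl.commutes r)
  have hφ'π : CommRingCat.ofHom φ' ≫ π = φ₀ := CommRingCat.hom_ext (RingHom.ext fun c => by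
    show Ideal.Quotient.mk N (φ' c) = φ₀ c
    rw [hφ'1]
    exact RingHom.congr_fun hmk c)
  have hq' : (Spec.map (CommRingCat.ofHom φ') ≫ xu) ≫ G.hom = q ≫ b := by
    rw [hpp]
    simp only [pp]
    rw [← Category.assoc (Spec.map _), ← Spec.map_comp, hφ'i, Spec.map_id]
    erw [Category.id_comp]
  refine ⟨Over.homMk (Spec.map (CommRingCat.ofHom φ') ≫ xu) hq', fun X' s h => ?_, ?_⟩
  · apply Over.OverMorphism.ext
    refine X'.left.affineCover.hom_ext _ _ fun i => ?_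
    let e := X'.left.affineCover.f i
    let f := Spec.preimage (e ≫ s.left)
    have hf : Spec.map f = e ≫ s.left := Spec.map_preimage _
    let φ'' := CommRingCat.ofHom φ' ≫ f
    have hpq : pp φ'' = Spec.map f ≫ q := by
      simp only [pp, φ'', Spec.map_comp, Category.assoc]
      rw [← Category.assoc (Spec.map _) (Spec.map iC), ← Spec.map_comp, hφ'i, Spec.map_id]
      erw [Category.id_comp]
    let w : Over.mk (pp φ'' ≫ b) ⟶ X' := Over.homMk e (by
      show e ≫ X'.hom = pp φ'' ≫ b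
      rw [hpq, hf, Category.assoc, Category.assoc, ← Over.w s]
      rfl)
    obtain ⟨χ, hχ⟩ := (σ.pt _ (pp φ'')).surjective (w ≫ h)
    have hfinal : ρ ≫ Lh φ'' χ = φ'' := CommRingCat.hom_ext (RingHom.ext fun c => hφ'3 f.hom χ c)
    have hk := key φ'' χ
    rw [hfinal] at hk
    show (w ≫ lift h (s ≫ _) ≫ act).left = (w ≫ s ≫ _).left
    have hw : w ≫ s ≫ (Over.homMk (Spec.map (CommRingCat.ofHom φ') ≫ xu) hq' :
        Over.mk (q ≫ b) ⟶ G) = Over.homMk (Spec.map φ'' ≫ xu) (hpp φ'') := by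
      apply Over.OverMorphism.ext
      show e ≫ s.left ≫ _ = _
      simp only [φ'', Spec.map_comp, Category.assoc, hf]
      rfl
    rw [← Category.assoc, comp_lift, hw, ← hχ]
    exact hk.symm
  · apply Over.OverMorphism.ext
    show Spec.map π ≫ Spec.map (CommRingCat.ofHom φ') ≫ xu = x₀.left
    rw [← Category.assoc, ← Spec.map_comp, hφ'π, hφ₀x]

end Groth.Agent.FixedSmooth
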