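import Groth.Agent.FixedSmooth.Cover
/-!
Fixed points of a split diagonalisable group lift near an affine open, with no affineness of the whole space.
-/

set_option autoImplicit false
set_option backward.isDefEq.respectTransparency false
set_option backward.isDefEq.respectTransparency.types false
set_option linter.style.haveILetI false

universe u

open CategoryTheory CategoryTheory.Limits MonoidalCategory CartesianMonoidalCategory MonObj AlgebraicGeometry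

noncomputable section

namespace Groth.Agent.FixedSmooth

section Algebra

variable {C D : Type u} [CommRing C] [CommRing D] {G : Type} [CommGroup G]

theorem mem_map_of_coeff {K : Ideal C}
    {x : MonoidAlgebra C G} (h : ∀ g, x.coeff g ∈ K) :
    x ∈ K.map (MonoidAlgebra.singleOneRingHom : C →+* MonoidAlgebra C G) := by
  rw [← MonoidAlgebra.sum_single x, Finsupp.sum]
  refine Ideal.sum_mem _ fun g _ => ?_
  rw [show MonoidAlgebra.single g (x.coeff g) =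
    MonoidAlgebra.singleOneRingHom (x.coeff g) * MonoidAlgebra.single g (1 : C) by
      simp [MonoidAlgebra.singleOneRingHom]]
  exact Ideal.mul_mem_right _ _ (Ideal.mem_map_of_mem _ (h g))

theorem mapRingHom_surjective (π : C →+* D) (h : Function.Surjective π) :
    Function.Surjective (MonoidAlgebra.mapRingHom G π) := fun w => by
  induction w using MonoidAlgebra.induction_linear with
  | zero => exact ⟨0, map_zero _⟩
  | add a b ha hb => obtain ⟨a, rfl⟩ := ha; obtain ⟨b, rfl⟩ := hb; exact ⟨a + b, map_add _ _ _⟩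
  | single m r => obtain ⟨c, rfl⟩ := h r; exact ⟨MonoidAlgebra.single m c, by simp⟩

theorem ker_mapRingHom_le (π : C →+* D) :
    RingHom.ker (MonoidAlgebra.mapRingHom G π) ≤
      (RingHom.ker π).map (MonoidAlgebra.singleOneRingHom : C →+* MonoidAlgebra C G) := fun w hw =>
  mem_map_of_coeff fun g => by
    simpa [RingHom.mem_ker] using congrArg (fun z => z.coeff g) (RingHom.mem_ker.1 hw)

theorem map_pow_eq_bot {K : Ideal C} (hK : K ^ 2 = ⊥) :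
    (K.map (MonoidAlgebra.singleOneRingHom : C →+* MonoidAlgebra C G)) ^ 2 = ⊥ := by
  rw [← Ideal.map_pow, hK, Ideal.map_bot]

/-- A surjection with square-zero kernel is surjective on spectra. -/
theorem surjective_Spec_map {A A' : CommRingCat.{u}} (g : A ⟶ A') (hg : Function.Surjective g.hom)
    {K : Ideal A} (hK : K ^ 2 = ⊥) (hker : RingHom.ker g.hom ≤ K) : Surjective (Spec.map g) := by
  refine ⟨fun p => ?_⟩
  have : (p : PrimeSpectrum A) ∈ Set.range (PrimeSpectrum.comap g.hom) := by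
    rw [range_comap_of_surjective _ _ hg]
    intro x hx
    have h2 := Ideal.pow_mem_pow (hker hx) 2
    rw [hK, Ideal.mem_bot] at h2
    exact p.isPrime.mem_of_pow_mem 2 (by rw [h2]; exact zero_mem _)
  exact this

end Algebra

variable {S : Scheme.{u}} {H G : Over S} [GrpObj H] {U : Scheme.{u}} {b : U ⟶ S} {M : Type} [AddCommGroup M]

theorem pp_w {B C₂ B' : CommRingCat.{u}} {q : Spec B ⟶ U} {iC₂ : B ⟶ C₂} {xu₂ : Spec C₂ ⟶ G.left}
    (hxu₂ : xu₂ ≫ G.hom = (Spec.map iC₂ ≫ q) ≫ b) (φ : C₂ ⟶ B') :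
    (Spec.map φ ≫ xu₂) ≫ G.hom = (Spec.map φ ≫ Spec.map iC₂ ≫ q) ≫ b := by
  simp only [Category.assoc] at hxu₂ ⊢
  rw [hxu₂]

/-- Averaging a lift of a fixed point, given a chart stable under the action. -/
theorem fixed_lift_of_classifier (act : H ⊗ G ⟶ G)
    (hact : ∀ (X : Over S) (h h' : X ⟶ H) (x : X ⟶ G),
      lift h (lift h' x ≫ act) ≫ act = lift (h * h') x ≫ act)
    (σ : Split H b M) (B : CommRingCat.{u}) (q : Spec B ⟶ U) (N : Ideal B) (hN : N ^ 2 = ⊥)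
    (C₂ : CommRingCat.{u}) (iC₂ : B ⟶ C₂) (xu₂ : Spec C₂ ⟶ G.left)
    (hxu₂ : xu₂ ≫ G.hom = (Spec.map iC₂ ≫ q) ≫ b)
    (huniq : ∀ {B' : CommRingCat.{u}} (φ ψ : C₂ ⟶ B'), iC₂ ≫ φ = iC₂ ≫ ψ →
      Spec.map φ ≫ xu₂ = Spec.map ψ ≫ xu₂ → φ = ψ)
    (ρ₂ : C₂ ⟶ CommRingCat.of (MonoidAlgebra C₂ (Multiplicative M)))
    (hρ₂i : iC₂ ≫ ρ₂ = iC₂ ≫ CommRingCat.ofHom MonoidAlgebra.singleOneRingHom)
    (hρ₂x : Spec.map ρ₂ ≫ xu₂ = Aw σ act
      (Spec.map (CommRingCat.ofHom MonoidAlgebra.singleOneRingHom :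
        C₂ ⟶ CommRingCat.of (MonoidAlgebra C₂ (Multiplicative M))) ≫ Spec.map iC₂ ≫ q)
      (Spec.map (CommRingCat.ofHom MonoidAlgebra.singleOneRingHom :
        C₂ ⟶ CommRingCat.of (MonoidAlgebra C₂ (Multiplicative M))) ≫ xu₂)
      (pp_w hxu₂ (CommRingCat.ofHom MonoidAlgebra.singleOneRingHom :
        C₂ ⟶ CommRingCat.of (MonoidAlgebra C₂ (Multiplicative M))))
      (MonoidAlgebra.of C₂ (Multiplicative M)))
    (φ₂ : C₂ ⟶ B) (hφ₂i : iC₂ ≫ φ₂ = 𝟙 B)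
    (x₀ : Over.mk ((Spec.map (CommRingCat.ofHom (Ideal.Quotient.mk N)) ≫ q) ≫ b) ⟶ G) (h₀ : IsFixed act x₀)
    (hx₀ : Spec.map (φ₂ ≫ CommRingCat.ofHom (Ideal.Quotient.mk N)) ≫ xu₂ = x₀.left) :
    ∃ (φ' : C₂ ⟶ B) (hq' : (Spec.map φ' ≫ xu₂) ≫ G.hom = q ≫ b),
      φ' ≫ CommRingCat.ofHom (Ideal.Quotient.mk N) = φ₂ ≫ CommRingCat.ofHom (Ideal.Quotient.mk N) ∧
      IsFixed act (Over.homMk (Spec.map φ' ≫ xu₂) hq' : Over.mk (q ≫ b) ⟶ G) ∧
      ∀ c, φ'.hom c = φ₂.hom (avg ρ₂.hom c) := by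
  let CM : CommRingCat.{u} := CommRingCat.of (MonoidAlgebra C₂ (Multiplicative M))
  let s1 : C₂ ⟶ CM := CommRingCat.ofHom MonoidAlgebra.singleOneRingHom
  let pp : ∀ {B' : CommRingCat.{u}} (φ : C₂ ⟶ B'), Spec B' ⟶ U := fun φ => Spec.map φ ≫ Spec.map iC₂ ≫ q
  let A : ∀ {B' : CommRingCat.{u}} (φ : C₂ ⟶ B'), (Multiplicative M →* B') → (Spec B' ⟶ G.left) :=
    fun φ χ => Aw σ act (pp φ) (Spec.map φ ≫ xu₂) (pp_w hxu₂ φ) χ
  let Lh : ∀ {B' : CommRingCat.{u}}, (C₂ ⟶ B') → (Multiplicative M →* B') → (CM ⟶ B') :=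
    fun φ χ => CommRingCat.ofHom (L φ.hom χ)
  have hs1 : ∀ {B' : CommRingCat.{u}} (φ : C₂ ⟶ B') (χ : Multiplicative M →* B'), s1 ≫ Lh φ χ = φ := fun φ χ =>
    CommRingCat.hom_ext (L_comp_single φ.hom χ)
  have hLi : ∀ {B' : CommRingCat.{u}} (φ : C₂ ⟶ B') (χ : Multiplicative M →* B'), iC₂ ≫ ρ₂ ≫ Lh φ χ = iC₂ ≫ φ :=
    fun φ χ => by rw [reassoc_of% hρ₂i, hs1]
  have key : ∀ {B' : CommRingCat.{u}} (φ : C₂ ⟶ B') (χ : Multiplicative M →* B'),
      Spec.map (ρ₂ ≫ Lh φ χ) ≫ xu₂ = A φ χ := fun φ χ => by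
    rw [Spec.map_comp, Category.assoc, hρ₂x]
    show Spec.map _ ≫ Aw σ act _ _ _ _ = _
    rw [Aw_nat]
    have : (Lh φ χ).hom.toMonoidHom.comp (MonoidAlgebra.of C₂ (Multiplicative M)) = χ := L_comp_of φ.hom χ
    rw [this]
    apply Aw_congr
    · simp only [pp]; rw [← Category.assoc, ← Spec.map_comp, hs1]
    · rw [← Category.assoc, ← Spec.map_comp, hs1]
  have hppi : ∀ {B' : CommRingCat.{u}} {φ ψ : C₂ ⟶ B'}, iC₂ ≫ φ = iC₂ ≫ ψ → pp φ = pp ψ := fun {B'} φ ψ h => by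
    show Spec.map φ ≫ Spec.map iC₂ ≫ q = Spec.map ψ ≫ Spec.map iC₂ ≫ q
    rw [← Category.assoc, ← Spec.map_comp, h, Spec.map_comp, Category.assoc]
  -- associativity
  let CMM : CommRingCat.{u} := CommRingCat.of (MonoidAlgebra CM (Multiplicative M))
  let s2 : CM ⟶ CMM := CommRingCat.ofHom MonoidAlgebra.singleOneRingHom
  let χ₂ : Multiplicative M →* CMM := MonoidAlgebra.of CM (Multiplicative M)
  let χ₁ : Multiplicative M →* CMM := s2.hom.toMonoidHom.comp (MonoidAlgebra.of C₂ (Multiplicative M))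
  have hassoc : ρ₂ ≫ Lh (ρ₂ ≫ s2) χ₂ = ρ₂ ≫ Lh (s1 ≫ s2) (χ₂ * χ₁) := by
    have hi : iC₂ ≫ ρ₂ ≫ s2 = iC₂ ≫ s1 ≫ s2 := by rw [reassoc_of% hρ₂i]
    refine huniq _ _ (by rw [hLi, hLi, hi]) ?_
    rw [key, key]
    have h1 : Spec.map (ρ₂ ≫ s2) ≫ xu₂ = A (s1 ≫ s2) χ₁ := by
      rw [Spec.map_comp, Category.assoc, hρ₂x]
      show Spec.map _ ≫ Aw σ act _ _ _ _ = _
      rw [Aw_nat]
      apply Aw_congr
      · simp only [pp]; rw [Spec.map_comp, Category.assoc]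
      · rw [Spec.map_comp, Category.assoc]
    have hA : A (ρ₂ ≫ s2) χ₂ = Aw σ act (pp (s1 ≫ s2)) (A (s1 ≫ s2) χ₁) (Aw_w _ _ _ _ _ _) χ₂ :=
      Aw_congr σ act _ _ _ (hppi hi) h1
    show A (ρ₂ ≫ s2) χ₂ = A (s1 ≫ s2) (χ₂ * χ₁)
    rw [hA]
    show (lift (σ.pt CMM (pp (s1 ≫ s2)) χ₂) (Over.homMk _ _) ≫ act).left = (lift _ _ ≫ act).left
    rw [map_mul, ← hact]
    rfl
  -- fixed modulo N
  let π := CommRingCat.ofHom (Ideal.Quotient.mk N)
  let φ₀ := φ₂ ≫ π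
  have hφ₀i : iC₂ ≫ φ₀ = π := by rw [← Category.assoc, hφ₂i, Category.id_comp]
  let t1 : CommRingCat.of (B ⧸ N) ⟶ CommRingCat.of (MonoidAlgebra (B ⧸ N) (Multiplicative M)) :=
    CommRingCat.ofHom MonoidAlgebra.singleOneRingHom
  have hfix : ρ₂ ≫ Lh (φ₀ ≫ t1) (MonoidAlgebra.of (B ⧸ N) (Multiplicative M)) = φ₀ ≫ t1 := by
    refine huniq _ _ (hLi _ _) ?_
    rw [key]
    let s : Over.mk (pp (φ₀ ≫ t1) ≫ b) ⟶ Over.mk ((Spec.map π ≫ q) ≫ b) := Over.homMk (Spec.map t1) (by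
      show Spec.map t1 ≫ (Spec.map π ≫ q) ≫ b = pp (φ₀ ≫ t1) ≫ b
      simp only [pp, ← hφ₀i, Spec.map_comp, Category.assoc])
    have := h₀ _ s (σ.pt _ (pp (φ₀ ≫ t1)) (MonoidAlgebra.of (B ⧸ N) (Multiplicative M)))
    have hsx : s ≫ x₀ = Over.homMk (Spec.map (φ₀ ≫ t1) ≫ xu₂) (pp_w hxu₂ (φ₀ ≫ t1)) := by
      apply Over.OverMorphism.ext
      show Spec.map t1 ≫ x₀.left = Spec.map (φ₀ ≫ t1) ≫ xu₂
      simp only [Spec.map_comp, Category.assoc]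
      exact congrArg (Spec.map t1 ≫ ·) hx₀.symm
    rw [hsx] at this
    exact congrArg CommaMorphism.left this
  obtain ⟨φ', hφ'1, hφ'2, hφ'3, hφ'4⟩ := exists_avg (B := B) ρ₂.hom (fun c => by
    have := congrArg (fun m => m.hom c) hassoc
    simp only [CommRingCat.hom_comp, RingHom.comp_apply, Lh, CommRingCat.hom_ofHom] at this
    refine Eq.trans ?_ this
    show _ = L (s2.hom.comp ρ₂.hom) χ₂ (ρ₂.hom c)
    exact RingHom.congr_fun (L_single_of (G := Multiplicative M) ρ₂.hom).symm _) φ₂.hom hN (by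
    have := congrArg CommRingCat.Hom.hom hfix
    simp only [CommRingCat.hom_comp, Lh, CommRingCat.hom_ofHom] at this
    rw [← L_single_of]
    exact this)
  have hφ'i : iC₂ ≫ CommRingCat.ofHom φ' = 𝟙 B := CommRingCat.hom_ext (RingHom.ext fun r => by
    show φ' (iC₂ r) = r
    refine (hφ'2 (iC₂.hom r) (congrArg (fun m => m.hom r) hρ₂i)).trans ?_
    exact congrArg (fun m => m.hom r) hφ₂i)
  have hφ'π : CommRingCat.ofHom φ' ≫ π = φ₀ := CommRingCat.hom_ext (RingHom.ext fun c => hφ'1 c)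
  have hq' : (Spec.map (CommRingCat.ofHom φ') ≫ xu₂) ≫ G.hom = q ≫ b := by
    rw [pp_w hxu₂, ← Category.assoc (Spec.map _), ← Spec.map_comp, hφ'i, Spec.map_id]
    erw [Category.id_comp]
  refine ⟨CommRingCat.ofHom φ', hq', hφ'π, fun X' s h => ?_, hφ'4⟩
  apply Over.OverMorphism.ext
  refine X'.left.affineCover.hom_ext _ _ fun i => ?_
  let e := X'.left.affineCover.f i
  let g' := Spec.preimage (e ≫ s.left)
  have hg : Spec.map g' = e ≫ s.left := Spec.map_preimage _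
  let φ'' := CommRingCat.ofHom φ' ≫ g'
  have hpq : pp φ'' = Spec.map g' ≫ q := by
    simp only [pp, φ'', Spec.map_comp, Category.assoc]
    rw [← Category.assoc (Spec.map _) (Spec.map iC₂), ← Spec.map_comp, hφ'i, Spec.map_id]
    erw [Category.id_comp]
  let w : Over.mk (pp φ'' ≫ b) ⟶ X' := Over.homMk e (by
    show e ≫ X'.hom = pp φ'' ≫ b
    rw [hpq, hg, Category.assoc, Category.assoc, ← Over.w s]
    rfl)
  obtain ⟨χ, hχ⟩ := (σ.pt _ (pp φ'')).surjective (w ≫ h)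
  have hfinal : ρ₂ ≫ Lh φ'' χ = φ'' := CommRingCat.hom_ext (RingHom.ext fun c => hφ'3 g'.hom χ c)
  have hk := key φ'' χ
  rw [hfinal] at hk
  show (w ≫ lift h (s ≫ _) ≫ act).left = (w ≫ s ≫ _).left
  have hw : w ≫ s ≫ (Over.homMk (Spec.map (CommRingCat.ofHom φ') ≫ xu₂) hq' :
      Over.mk (q ≫ b) ⟶ G) = Over.homMk (Spec.map φ'' ≫ xu₂) (pp_w hxu₂ φ'') := by
    apply Over.OverMorphism.ext
    show e ≫ s.left ≫ _ = _
    simp only [φ'', Spec.map_comp, Category.assoc, hg]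
    rfl
  rw [← Category.assoc, comp_lift, hw, ← hχ]
  exact hk.symm

/-- The chart near the fixed locus. -/
theorem exists_classifier (act : H ⊗ G ⟶ G) (σ : Split H b M) (B : CommRingCat.{u}) (q : Spec B ⟶ U)
    (W : G.left.Opens) (C : CommRingCat.{u}) (iC : B ⟶ C) (xW : Spec C ⟶ W.toScheme)
    (hxu : (xW ≫ W.ι) ≫ G.hom = (Spec.map iC ≫ q) ≫ b)
    (hex : ∀ {B' : CommRingCat.{u}} (g : B ⟶ B') (z : Spec B' ⟶ W.toScheme),
      (z ≫ W.ι) ≫ G.hom = (Spec.map g ≫ q) ≫ b → ∃ φ : C ⟶ B', iC ≫ φ = g ∧ Spec.map φ ≫ xW = z)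
    (huniq : ∀ {B' : CommRingCat.{u}} (φ ψ : C ⟶ B'), iC ≫ φ = iC ≫ ψ →
      Spec.map φ ≫ xW ≫ W.ι = Spec.map ψ ≫ xW ≫ W.ι → φ = ψ)
    (D : CommRingCat.{u}) (πD : C ⟶ D) (hπDs : Function.Surjective πD.hom)
    (hDfix : IsFixed act (Over.homMk (Spec.map πD ≫ xW ≫ W.ι) (by
      simp only [Category.assoc] at hxu
      show (Spec.map πD ≫ xW ≫ W.ι) ≫ G.hom = (Spec.map πD ≫ Spec.map iC ≫ q) ≫ b
      simp only [Category.assoc, hxu]) :
      Over.mk ((Spec.map πD ≫ Spec.map iC ≫ q) ≫ b) ⟶ G)) :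
    ∃ (C₂ : CommRingCat.{u}) (π₂ : C ⟶ C₂)
      (ρ₂ : C₂ ⟶ CommRingCat.of (MonoidAlgebra C₂ (Multiplicative M))),
      (∀ {B' : CommRingCat.{u}} (φ : C ⟶ B') (N : Ideal B'), N ^ 2 = ⊥ →
        (RingHom.ker πD.hom).map φ.hom ≤ N → ∃ φ₂ : C₂ ⟶ B', π₂ ≫ φ₂ = φ) ∧
      (∀ {B' : CommRingCat.{u}} (φ ψ : C₂ ⟶ B'), π₂ ≫ φ = π₂ ≫ ψ → φ = ψ) ∧
      (iC ≫ π₂) ≫ ρ₂ = (iC ≫ π₂) ≫ CommRingCat.ofHom MonoidAlgebra.singleOneRingHom ∧
      ∃ hz, Spec.map ρ₂ ≫ Spec.map π₂ ≫ xW ≫ W.ι =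
        Aw σ act (Spec.map (CommRingCat.ofHom MonoidAlgebra.singleOneRingHom) ≫ Spec.map (iC ≫ π₂) ≫ q)
          (Spec.map (CommRingCat.ofHom MonoidAlgebra.singleOneRingHom) ≫ Spec.map π₂ ≫ xW ≫ W.ι) hz
          (MonoidAlgebra.of C₂ (Multiplicative M)) := by
  let J : Ideal C := RingHom.ker πD.hom
  obtain ⟨C₂, π₂, hπ₂s, hker⟩ : ∃ (C₂ : CommRingCat.{u}) (π₂ : C ⟶ C₂), Function.Surjective π₂.hom ∧
      RingHom.ker π₂.hom = J ^ 2 :=
    ⟨CommRingCat.of (C ⧸ J ^ 2), CommRingCat.ofHom (Ideal.Quotient.mk _), Ideal.Quotient.mk_surjective, Ideal.mk_ker⟩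
  have hdesc : ∀ {B' : CommRingCat.{u}} (φ : C ⟶ B'), J ^ 2 ≤ RingHom.ker φ.hom →
      ∃ φ₂ : C₂ ⟶ B', π₂ ≫ φ₂ = φ := fun {B'} φ hφ =>
    ⟨CommRingCat.ofHom (RingHom.liftOfSurjective π₂.hom hπ₂s ⟨φ.hom, by rw [hker]; exact hφ⟩),
      CommRingCat.hom_ext (RingHom.liftOfRightInverse_comp _ _ _ _)⟩
  have hepi : ∀ {B' : CommRingCat.{u}} (φ ψ : C₂ ⟶ B'), π₂ ≫ φ = π₂ ≫ ψ → φ = ψ := fun φ ψ h =>
    CommRingCat.hom_ext (RingHom.ext fun c => by
      obtain ⟨c, rfl⟩ := hπ₂s c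
      exact congrArg (fun m => m.hom c) h)
  obtain ⟨πD₂, hπ₂⟩ := hdesc πD (Ideal.pow_le_self two_ne_zero)
  let J₂ : Ideal C₂ := RingHom.ker πD₂.hom
  have hJ₂ : J₂ ^ 2 = ⊥ := by
    have hle : J₂ ≤ J.map π₂.hom := fun d hd => by
      obtain ⟨c, rfl⟩ := hπ₂s d
      refine Ideal.mem_map_of_mem _ (RingHom.mem_ker.2 ?_)
      rw [← hπ₂]; exact hd
    refine le_bot_iff.1 ((Ideal.pow_right_mono hle 2).trans ?_)
    rw [← Ideal.map_pow, ← hker, Ideal.map_le_iff_le_comap]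
    exact fun c hc => hc
  let CM : CommRingCat.{u} := CommRingCat.of (MonoidAlgebra C₂ (Multiplicative M))
  let DM : CommRingCat.{u} := CommRingCat.of (MonoidAlgebra D (Multiplicative M))
  let s1 : C₂ ⟶ CM := CommRingCat.ofHom MonoidAlgebra.singleOneRingHom
  let sD : D ⟶ DM := CommRingCat.ofHom MonoidAlgebra.singleOneRingHom
  let mD : CM ⟶ DM := CommRingCat.ofHom (MonoidAlgebra.mapRingHom _ πD₂.hom)
  have hmD : s1 ≫ mD = πD₂ ≫ sD :=
    CommRingCat.hom_ext (RingHom.ext fun c => MonoidAlgebra.mapRingHom_single (f := πD₂.hom) 1 c)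
  let z := Spec.map s1 ≫ Spec.map π₂ ≫ xW ≫ W.ι
  have hz : z ≫ G.hom = (Spec.map s1 ≫ Spec.map (iC ≫ π₂) ≫ q) ≫ b := by
    simp only [z, Spec.map_comp, Category.assoc] at hxu ⊢
    rw [hxu]
  let a := Aw σ act (Spec.map s1 ≫ Spec.map (iC ≫ π₂) ≫ q) z hz (MonoidAlgebra.of C₂ (Multiplicative M))
  have hchain : Spec.map (πD ≫ sD) = Spec.map mD ≫ Spec.map s1 ≫ Spec.map π₂ := by
    rw [← Category.assoc, ← Spec.map_comp, hmD, ← Spec.map_comp, ← Category.assoc, hπ₂]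
  -- the action near the fixed locus is constant modulo J₂
  have hD : Spec.map mD ≫ a = Spec.map (πD ≫ sD) ≫ xW ≫ W.ι := by
    show Spec.map _ ≫ Aw σ act _ _ _ _ = _
    rw [Aw_nat]
    let X' : Over S := Over.mk ((Spec.map mD ≫ Spec.map s1 ≫ Spec.map (iC ≫ π₂) ≫ q) ≫ b)
    let s : X' ⟶ Over.mk ((Spec.map πD ≫ Spec.map iC ≫ q) ≫ b) := Over.homMk (Spec.map sD) (by
      show Spec.map sD ≫ (Spec.map πD ≫ Spec.map iC ≫ q) ≫ b = (Spec.map mD ≫ Spec.map s1 ≫ Spec.map (iC ≫ π₂) ≫ q) ≫ b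
      have := congrArg (fun m => m ≫ Spec.map iC ≫ q ≫ b) hchain
      simpa [Spec.map_comp, Category.assoc] using this)
    have hy := congrArg CommaMorphism.left (hDfix X' s
      (σ.pt DM _ (mD.hom.toMonoidHom.comp (MonoidAlgebra.of C₂ (Multiplicative M)))))
    refine Eq.trans ?_ (hy.trans ?_)
    · show (lift _ _ ≫ act).left = _
      congr 3
      apply Over.OverMorphism.ext
      show Spec.map mD ≫ z = Spec.map sD ≫ Spec.map πD ≫ xW ≫ W.ι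
      have := congrArg (fun m => m ≫ xW ≫ W.ι) hchain
      simpa [z, Spec.map_comp, Category.assoc] using this.symm
    · show Spec.map sD ≫ Spec.map πD ≫ xW ≫ W.ι = _
      simp only [Spec.map_comp, Category.assoc]
  have hrange : Set.range a ⊆ (W : Set G.left) := by
    haveI := surjective_Spec_map mD (mapRingHom_surjective _ (fun d => by
      obtain ⟨c, rfl⟩ := hπDs d
      exact ⟨π₂.hom c, congrArg (fun m => m.hom c) hπ₂⟩)) (map_pow_eq_bot hJ₂) (ker_mapRingHom_le _)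
    rintro _ ⟨p, rfl⟩
    obtain ⟨p', rfl⟩ := (inferInstance : Surjective (Spec.map mD)).surj p
    rw [← Scheme.Hom.comp_apply, hD, ← Category.assoc, Scheme.Hom.comp_apply]
    exact ((Spec.map (πD ≫ sD) ≫ xW) p').2
  obtain ⟨ρ, hρ₁, hρW⟩ := hex ((iC ≫ π₂) ≫ s1) (IsOpenImmersion.lift W.ι a (by
      rw [Scheme.Opens.range_ι]; exact hrange)) (by
    rw [IsOpenImmersion.lift_fac, Aw_w]
    simp [Spec.map_comp])
  have hρ₂ : Spec.map ρ ≫ xW ≫ W.ι = a := by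
    rw [reassoc_of% hρW, IsOpenImmersion.lift_fac]
  have hρD : ρ ≫ mD = πD ≫ sD := by
    refine huniq _ _ ?_ ?_
    · rw [reassoc_of% hρ₁, hmD, reassoc_of% hπ₂]
    · rw [Spec.map_comp ρ mD, Category.assoc, hρ₂, hD]
  obtain ⟨ρ₂, hρρ⟩ := hdesc ρ (by
    have h1 : J.map ρ.hom ≤ J₂.map (MonoidAlgebra.singleOneRingHom : C₂ →+* CM) :=
      Ideal.map_le_iff_le_comap.2 fun c hc => ker_mapRingHom_le _ (RingHom.mem_ker.2 (by
        have := congrArg (fun m => m.hom c) hρD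
        simpa [mD, RingHom.mem_ker.1 hc] using this))
    intro c hc
    have := Ideal.pow_right_mono h1 2 (by rw [← Ideal.map_pow]; exact Ideal.mem_map_of_mem ρ.hom hc)
    rwa [map_pow_eq_bot hJ₂, Ideal.mem_bot] at this)
  refine ⟨C₂, π₂, ρ₂, fun φ N hN hle => hdesc φ (fun c hc => ?_), hepi, ?_, hz, ?_⟩
  · have := Ideal.pow_right_mono hle 2 (by rw [← Ideal.map_pow]; exact Ideal.mem_map_of_mem φ.hom hc)
    rwa [hN, Ideal.mem_bot] at this
  · rw [Category.assoc, hρρ, hρ₁]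
  · rw [← Category.assoc, ← Spec.map_comp, hρρ, hρ₂]

/-- Fixed points over a square-zero thickening lift, when the point lies in an affine open. -/
theorem exists_fixed_lift_local (act : H ⊗ G ⟶ G)
    (hact : ∀ (X : Over S) (h h' : X ⟶ H) (x : X ⟶ G),
      lift h (lift h' x ≫ act) ≫ act = lift (h * h') x ≫ act)
    {F : Over S} (f : F ⟶ G) [IsClosedImmersion f.left]
    (hF : ∀ (X : Over S) (x : X ⟶ G), (∃ y : X ⟶ F, y ≫ f = x) ↔ IsFixed act x)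
    (W : G.left.Opens) [Smooth (W.ι ≫ G.hom)]
    (σ : Split H b M) (B : CommRingCat.{u}) (q : Spec B ⟶ U) [IsAffine (pullback (W.ι ≫ G.hom) (q ≫ b))]
    (N : Ideal B) (hN : N ^ 2 = ⊥)
    (z₀ : Spec (CommRingCat.of (B ⧸ N)) ⟶ W.toScheme)
    (hz₀ : (z₀ ≫ W.ι) ≫ G.hom = (Spec.map (CommRingCat.ofHom (Ideal.Quotient.mk N)) ≫ q) ≫ b)
    (h₀ : IsFixed act (Over.homMk (z₀ ≫ W.ι) hz₀ :
      Over.mk ((Spec.map (CommRingCat.ofHom (Ideal.Quotient.mk N)) ≫ q) ≫ b) ⟶ G)) :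
    ∃ (x : Over.mk (q ≫ b) ⟶ G) (z : Spec B ⟶ W.toScheme), z ≫ W.ι = x.left ∧ IsFixed act x ∧
      Spec.map (CommRingCat.ofHom (Ideal.Quotient.mk N)) ≫ z = z₀ := by
  let P := pullback (W.ι ≫ G.hom) (q ≫ b)
  let C := Γ(P, ⊤)
  let κ : Spec C ⟶ P := P.isoSpec.inv
  let iC : B ⟶ C := Spec.preimage (κ ≫ pullback.snd (W.ι ≫ G.hom) (q ≫ b))
  have hiC : Spec.map iC = κ ≫ pullback.snd (W.ι ≫ G.hom) (q ≫ b) := Spec.map_preimage _
  let xW : Spec C ⟶ W.toScheme := κ ≫ pullback.fst (W.ι ≫ G.hom) (q ≫ b)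
  have hxu : (xW ≫ W.ι) ≫ G.hom = (Spec.map iC ≫ q) ≫ b := by
    simp only [xW, hiC, Category.assoc, pullback.condition]
  have hsm : iC.hom.FormallySmooth := by
    haveI : Smooth (pullback.snd (W.ι ≫ G.hom) (q ≫ b)) := MorphismProperty.pullback_snd _ _ ‹_›
    haveI : Smooth (Spec.map iC) := by rw [hiC]; infer_instance
    exact ((HasRingHomProperty.Spec_iff (P := @Smooth)).1 ‹_›).formallySmooth
  have hex : ∀ {B' : CommRingCat.{u}} (g : B ⟶ B') (z : Spec B' ⟶ W.toScheme),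
      (z ≫ W.ι) ≫ G.hom = (Spec.map g ≫ q) ≫ b →
      ∃ φ : C ⟶ B', iC ≫ φ = g ∧ Spec.map φ ≫ xW = z := fun {B'} g z hz => by
    let l : Spec B' ⟶ P := pullback.lift z (Spec.map g) (by simpa [Category.assoc] using hz)
    refine ⟨Spec.preimage (l ≫ P.isoSpec.hom), Spec.map_injective ?_, ?_⟩
    · simp [hiC, κ, l]
    · simp [xW, κ, l]
  have huniqC : ∀ {B' : CommRingCat.{u}} (φ ψ : C ⟶ B'), iC ≫ φ = iC ≫ ψ →
      Spec.map φ ≫ xW ≫ W.ι = Spec.map ψ ≫ xW ≫ W.ι → φ = ψ := fun {B'} φ ψ h1 h2 => by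
    apply Spec.map_injective
    rw [← cancel_mono κ]
    apply pullback.hom_ext
    · rw [← cancel_mono W.ι]
      simpa [xW] using h2
    · have := congrArg Spec.map h1
      simpa [Spec.map_comp, hiC] using this
  -- the fixed locus in the chart
  let j : pullback f.left (xW ≫ W.ι) ⟶ Spec C := pullback.snd f.left (xW ≫ W.ι)
  haveI : IsAffine (pullback f.left (xW ≫ W.ι)) := isAffine_of_isAffineHom j
  let D := Γ(pullback f.left (xW ≫ W.ι), ⊤)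
  let κD : Spec D ⟶ pullback f.left (xW ≫ W.ι) := (pullback f.left (xW ≫ W.ι)).isoSpec.inv
  let πD : C ⟶ D := Spec.preimage (κD ≫ j)
  have hπD : Spec.map πD = κD ≫ j := Spec.map_preimage _
  have hπDs : Function.Surjective πD.hom := by
    haveI : IsClosedImmersion (Spec.map πD) := by rw [hπD]; infer_instance
    have h1 := (Spec.map πD).app_surjective ⊤ (isAffineOpen_top _)
    intro d
    obtain ⟨c, hc⟩ := h1 ((Scheme.ΓSpecIso D).inv d)
    refine ⟨(Scheme.ΓSpecIso C).hom c, ?_⟩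
    have := congrArg (fun m => m.hom c) (Scheme.ΓSpecIso_naturality πD)
    simp only [CommRingCat.hom_comp, RingHom.comp_apply] at this
    rw [← this]
    erw [hc]
    exact congrArg (fun m => m.hom d) (Scheme.ΓSpecIso D).inv_hom_id
  let X_D : Over S := Over.mk ((Spec.map πD ≫ Spec.map iC ≫ q) ≫ b)
  let xD : X_D ⟶ G := Over.homMk (Spec.map πD ≫ xW ≫ W.ι) (by
    simp only [Category.assoc] at hxu ⊢; rw [hxu]; simp [X_D])
  let yD : X_D ⟶ F := Over.homMk (κD ≫ pullback.fst f.left (xW ≫ W.ι)) (by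
    show _ ≫ F.hom = X_D.hom
    rw [← Over.w f, Category.assoc, pullback.condition_assoc, ← Over.w xD]
    show κD ≫ j ≫ _ = _
    rw [← reassoc_of% hπD]
    simp [xD])
  have hyD : yD ≫ f = xD := Over.OverMorphism.ext (by
    show (κD ≫ pullback.fst f.left (xW ≫ W.ι)) ≫ f.left = Spec.map πD ≫ xW ≫ W.ι
    rw [Category.assoc, pullback.condition, ← reassoc_of% hπD])
  obtain ⟨C₂, π₂, ρ₂, hdesc, hepi, hρi, hz, hρx⟩ := exists_classifier act σ B q W C iC xW hxu hex huniqC D πD hπDs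
    ((hF X_D xD).1 ⟨yD, hyD⟩)
  -- the point modulo N
  let π := CommRingCat.ofHom (Ideal.Quotient.mk N)
  obtain ⟨φ₀, hφ₀i, hφ₀x⟩ := hex π z₀ hz₀
  obtain ⟨y, hy⟩ := (hF _ _).2 h₀
  have hφ₀J : ∀ c ∈ RingHom.ker πD.hom, φ₀.hom c = 0 := by
    let l : Spec (CommRingCat.of (B ⧸ N)) ⟶ pullback f.left (xW ≫ W.ι) := pullback.lift y.left (Spec.map φ₀) (by
      rw [reassoc_of% hφ₀x]
      exact congrArg CommaMorphism.left hy)
    let δ : D ⟶ CommRingCat.of (B ⧸ N) := Spec.preimage (l ≫ (pullback f.left (xW ≫ W.ι)).isoSpec.hom)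
    have : πD ≫ δ = φ₀ := Spec.map_injective (by simp [δ, hπD, κD, l, j])
    intro c hc
    rw [← this, CommRingCat.hom_comp, RingHom.comp_apply, RingHom.mem_ker.1 hc, map_zero]
  letI : Algebra B C := iC.hom.toAlgebra
  haveI : Algebra.FormallySmooth B C := hsm
  let g : C →ₐ[B] B ⧸ N := { φ₀.hom with commutes' := fun r => by exact congrArg (fun m => m.hom r) hφ₀i }
  obtain ⟨φl, hφl⟩ := Algebra.FormallySmooth.exists_lift (A := C) N ⟨2, hN⟩ g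
  have hmk : (Ideal.Quotient.mk N).comp φl.toRingHom = φ₀.hom := congrArg AlgHom.toRingHom hφl
  obtain ⟨φ₂, hφ₂⟩ := hdesc (CommRingCat.ofHom φl.toRingHom : C ⟶ B) N hN (Ideal.map_le_iff_le_comap.2 fun c hc =>
    (Ideal.Quotient.eq_zero_iff_mem (I := N)).1 (show (Ideal.Quotient.mk N).comp φl.toRingHom c = 0 by
      rw [hmk]; exact hφ₀J c hc))
  have hφ₂i : (iC ≫ π₂) ≫ φ₂ = 𝟙 B := by
    rw [Category.assoc, hφ₂]
    exact CommRingCat.hom_ext (RingHom.ext fun r => φl.commutes r)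
  have hlπ : (CommRingCat.ofHom φl.toRingHom : C ⟶ B) ≫ π = φ₀ := CommRingCat.hom_ext hmk
  have hxu₂ : (Spec.map π₂ ≫ xW ≫ W.ι) ≫ G.hom = (Spec.map (iC ≫ π₂) ≫ q) ≫ b := by
    simp only [Spec.map_comp, Category.assoc] at hxu ⊢
    rw [hxu]
  obtain ⟨φ', hq', hφ'π, hfix, -⟩ := fixed_lift_of_classifier act hact σ B q N hN C₂ (iC ≫ π₂)
    (Spec.map π₂ ≫ xW ≫ W.ι) hxu₂ (fun φ ψ h1 h2 => hepi _ _ (huniqC _ _ (by simpa [Category.assoc] using h1)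
      (by simpa [Spec.map_comp, Category.assoc] using h2))) ρ₂ hρi hρx φ₂ hφ₂i _ h₀ (by
      show Spec.map (φ₂ ≫ π) ≫ Spec.map π₂ ≫ xW ≫ W.ι = z₀ ≫ W.ι
      rw [← Category.assoc, ← Spec.map_comp, ← Category.assoc π₂, hφ₂, hlπ, ← Category.assoc, hφ₀x])
  refine ⟨_, Spec.map (π₂ ≫ φ') ≫ xW, ?_, hfix, ?_⟩
  · show _ = Spec.map φ' ≫ Spec.map π₂ ≫ xW ≫ W.ι
    simp only [Spec.map_comp, Category.assoc]
  · rw [← Category.assoc, ← Spec.map_comp, Category.assoc, hφ'π, reassoc_of% hφ₂, hlπ, hφ₀x]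

end Groth.Agent.FixedSmooth
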