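import Mathlib
/-!
Smoothness from lifting over an fpqc cover.
-/

set_option autoImplicit false
set_option backward.isDefEq.respectTransparency false
set_option backward.isDefEq.respectTransparency.types false
set_option linter.style.haveILetI false

universe u

open CategoryTheory CategoryTheory.Limits AlgebraicGeometry

noncomputable section

namespace Groth.Agent.FixedSmooth

variable {S T : Scheme.{u}}

/-- Lifting of points of `f` along square-zero thickenings over `b`. -/
def Lifts (f : T ⟶ S) {U : Scheme.{u}} (b : U ⟶ S) : Prop :=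
  ∀ (B : CommRingCat.{u}) (q : Spec B ⟶ U) (N : Ideal B), N ^ 2 = ⊥ →
    ∀ z : Spec (CommRingCat.of (B ⧸ N)) ⟶ T,
      z ≫ f = (Spec.map (CommRingCat.ofHom (Ideal.Quotient.mk N)) ≫ q) ≫ b →
      ∃ z' : Spec B ⟶ T, z' ≫ f = q ≫ b ∧ Spec.map (CommRingCat.ofHom (Ideal.Quotient.mk N)) ≫ z' = z

theorem smooth_pullback_snd_of_lifts (f : T ⟶ S) [IsAffineHom f] [LocallyOfFinitePresentation f]
    {U A : Scheme.{u}} [IsAffine A] (a : A ⟶ U) (b : U ⟶ S) (h : Lifts f b) :
    Smooth (pullback.snd f (a ≫ b)) := by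
  let P := pullback f (a ≫ b)
  let p : P ⟶ A := pullback.snd f (a ≫ b)
  haveI : IsAffine P := isAffine_of_isAffineHom p
  show Smooth p
  rw [HasRingHomProperty.iff_of_isAffine (P := @Smooth)]
  have hfp : p.appTop.hom.FinitePresentation :=
    (HasRingHomProperty.iff_of_isAffine (P := @LocallyOfFinitePresentation)).1 inferInstance
  letI : Algebra Γ(A, ⊤) Γ(P, ⊤) := p.appTop.hom.toAlgebra
  have hfs : Algebra.FormallySmooth Γ(A, ⊤) Γ(P, ⊤) := by
    refine Algebra.FormallySmooth.of_comp_surjective fun B _ _ I hI g => ?_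
    let B' : CommRingCat.{u} := CommRingCat.of B
    let π : B' ⟶ CommRingCat.of (B ⧸ I) := CommRingCat.ofHom (Ideal.Quotient.mk I)
    let g' : Γ(P, ⊤) ⟶ CommRingCat.of (B ⧸ I) := CommRingCat.ofHom g.toRingHom
    let al : Γ(A, ⊤) ⟶ B' := CommRingCat.ofHom (algebraMap _ B)
    have hg' : p.appTop ≫ g' = al ≫ π := CommRingCat.hom_ext (RingHom.ext fun r => g.commutes r)
    let qA : Spec B' ⟶ A := Spec.map al ≫ A.isoSpec.inv
    let z : Spec (CommRingCat.of (B ⧸ I)) ⟶ T := Spec.map g' ≫ P.isoSpec.inv ≫ pullback.fst f (a ≫ b)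
    have hnat : P.isoSpec.inv ≫ p = Spec.map p.appTop ≫ A.isoSpec.inv := Scheme.isoSpec_inv_naturality p |>.symm
    have hz : z ≫ f = (Spec.map π ≫ qA ≫ a) ≫ b := by
      simp only [z, qA, Category.assoc]
      rw [pullback.condition]
      show Spec.map g' ≫ P.isoSpec.inv ≫ p ≫ a ≫ b = _
      rw [reassoc_of% hnat, ← Category.assoc, ← Spec.map_comp, hg', Spec.map_comp, Category.assoc]
    obtain ⟨z', hz'1, hz'2⟩ := h B' (qA ≫ a) I hI z hz
    let l : Spec B' ⟶ P := pullback.lift z' qA (by rw [hz'1, Category.assoc])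
    let φ : Γ(P, ⊤) ⟶ B' := Spec.preimage (l ≫ P.isoSpec.hom)
    have hφA : p.appTop ≫ φ = al := by
      apply Spec.map_injective
      rw [Spec.map_comp, Spec.map_preimage, ← cancel_mono A.isoSpec.inv, Category.assoc, Category.assoc, ← hnat,
        Iso.hom_inv_id_assoc]
      exact pullback.lift_snd _ _ _
    refine ⟨{ φ.hom with commutes' := fun r => congrArg (fun m => m.hom r) hφA }, ?_⟩
    have : φ ≫ π = g' := by
      apply Spec.map_injective
      rw [Spec.map_comp, Spec.map_preimage, ← cancel_mono P.isoSpec.inv, Category.assoc, Category.assoc,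
        Iso.hom_inv_id, Category.comp_id]
      apply pullback.hom_ext
      · simp only [Category.assoc, l, pullback.lift_fst]
        exact hz'2
      · simp only [Category.assoc, l, pullback.lift_snd]
        show Spec.map π ≫ qA = Spec.map g' ≫ P.isoSpec.inv ≫ p
        rw [hnat, ← Category.assoc (Spec.map g'), ← Spec.map_comp, hg', Spec.map_comp, Category.assoc]
    exact AlgHom.ext fun c => congrArg (fun m => m.hom c) this
  exact ⟨hfs, hfp⟩

theorem smooth_of_locally_lifts (f : T ⟶ S) [IsAffineHom f] [LocallyOfFinitePresentation f]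
    {S' : Scheme.{u}} (c : S' ⟶ S) [Flat c]
    (hqc : ∀ V : S.Opens, IsAffineOpen V → ∃ W : S'.Opens, IsCompact (W : Set S') ∧ c.base '' (W : Set S') = (V : Set S))
    (hloc : ∀ s' : S', ∃ U : S'.Opens, s' ∈ U ∧ Lifts f (U.ι ≫ c)) : Smooth f := by
  haveI : IsZariskiLocalAtTarget (@Smooth.{u}) :=
    HasRingHomProperty.instIsZariskiLocalAtTarget.{u} _ (Q := RingHom.Smooth)
  refine IsZariskiLocalAtTarget.of_iSup_eq_top (P := @Smooth.{u}) _ (iSup_affineOpens_eq_top S) ?_
  intro V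
  obtain ⟨W, hWc, hW⟩ := hqc V.1 V.2
  have hW' : W ≤ c ⁻¹ᵁ V.1 := fun w hw => hW.subset ⟨w, hw, rfl⟩
  choose O hO hL using hloc
  have hA : ∀ w : W, ∃ A : S'.Opens, IsAffineOpen A ∧ w.1 ∈ A ∧ A ≤ O w.1 ⊓ W := fun w => by
    obtain ⟨A, hA, hwA, hle⟩ := exists_isAffineOpen_mem_and_subset (x := w.1) (U := O w.1 ⊓ W) ⟨hO w.1, w.2⟩
    exact ⟨A, hA, hwA, hle⟩
  choose A hAa hwA hAle using hA
  obtain ⟨t, ht⟩ := hWc.elim_finite_subcover (fun w : W => (A w : Set S')) (fun w => (A w).2)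
    fun w hw => Set.mem_iUnion.2 ⟨⟨w, hw⟩, hwA _⟩
  haveI : IsAffine (V.1 : Scheme.{u}) := V.2
  haveI : ∀ i : t, IsAffine ((A i.1 : Scheme.{u})) := fun i => hAa i.1
  let g : ∀ i : t, (A i.1 : Scheme.{u}) ⟶ (V.1 : Scheme.{u}) := fun i =>
    c.resLE V.1 (A i.1) (((hAle i.1).trans inf_le_right).trans hW')
  have hg : ∀ i, g i ≫ V.1.ι = S'.homOfLE ((hAle i.1).trans inf_le_left) ≫ (O i.1.1).ι ≫ c := fun i => by
    simp [g]
  have hP : Smooth (pullback.snd (f ∣_ V.1) (Sigma.desc g)) := by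
    rw [IsZariskiLocalAtTarget.iff_of_openCover (P := @Smooth.{u})
      (sigmaOpenCover fun i : t => (A i.1 : Scheme.{u}))]
    intro i
    have h1 : IsPullback (pullback.fst _ _ ≫ pullback.fst (f ∣_ V.1) (Sigma.desc g))
        (pullback.snd (pullback.snd (f ∣_ V.1) (Sigma.desc g)) (Sigma.ι (fun i : t => (A i.1 : Scheme.{u})) i))
        (f ∣_ V.1) (g i) := by
      have := (IsPullback.of_hasPullback _ _).paste_horiz (IsPullback.of_hasPullback (f ∣_ V.1) (Sigma.desc g))
        (h₁₁ := pullback.fst _ (Sigma.ι (fun i : t => (A i.1 : Scheme.{u})) i))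
      have e : Sigma.ι (fun i : t => (A i.1 : Scheme.{u})) i ≫ Sigma.desc g = g i := Sigma.ι_desc g i
      exact e ▸ this
    have h2 := h1.paste_horiz (isPullback_morphismRestrict f V.1).flip
    erw [hg] at h2
    have hs := smooth_pullback_snd_of_lifts f (S'.homOfLE ((hAle i.1).trans inf_le_left)) ((O i.1.1).ι ≫ c) (hL i.1.1)
    have := (MorphismProperty.cancel_left_of_respectsIso @Smooth.{u} h2.isoPullback.hom _).2 hs
    rw [IsPullback.isoPullback_hom_snd] at this
    exact this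
  haveI : Surjective (Sigma.desc g) := ⟨fun v => by
    obtain ⟨z, hzW, hz⟩ := hW.superset v.2
    obtain ⟨i, hi, hzi⟩ := Set.mem_iUnion₂.mp (ht hzW)
    refine ⟨Sigma.ι (fun i : t => (A i.1 : Scheme.{u})) ⟨i, hi⟩ ⟨z, hzi⟩, V.1.ι.isOpenEmbedding.injective ?_⟩
    erw [← Scheme.Hom.comp_apply, ← Scheme.Hom.comp_apply, Sigma.ι_desc_assoc, hg]
    simp only [← Category.assoc, Scheme.homOfLE_ι]
    exact hz⟩
  haveI : Flat (Sigma.desc g) := by
    haveI : IsZariskiLocalAtSource (@Flat.{u}) :=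
      HasRingHomProperty.instIsZariskiLocalAtSource.{u} (Q := RingHom.Flat)
    exact IsZariskiLocalAtSource.sigmaDesc fun i => inferInstance
  exact MorphismProperty.of_pullback_snd_of_descendsAlong (P := @Smooth)
    (Q := @Surjective ⊓ @Flat ⊓ @QuasiCompact) (f := f ∣_ V.1) (g := Sigma.desc g)
    ⟨⟨inferInstance, inferInstance⟩, inferInstance⟩ hP

end Groth.Agent.FixedSmooth
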