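import Groth.Agent.FixedSmooth.Props
import Groth.Agent.FixedSmooth.GroupLike
/-!
Lifting containments between conjugates of split groups along square-zero thickenings.
-/

set_option autoImplicit false
set_option backward.isDefEq.respectTransparency false
set_option backward.isDefEq.respectTransparency.types false
set_option linter.style.haveILetI false

universe u

open CategoryTheory CategoryTheory.Limits MonoidalCategory CartesianMonoidalCategory MonObj AlgebraicGeometry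

noncomputable section

namespace Groth.Agent.FixedSmooth

/-- `x` conjugates every point of `H₁` into `H₂`. -/
def Contain {S : Scheme.{u}} {H₁ H₂ G X : Over S} [GrpObj G] (i₁ : H₁ ⟶ G) (i₂ : H₂ ⟶ G) (x : X ⟶ G) : Prop :=
  ∀ (X' : Over S) (s : X' ⟶ X) (h : X' ⟶ H₁), ∃ h' : X' ⟶ H₂, (s ≫ x) * (h ≫ i₁) * (s ≫ x)⁻¹ = h' ≫ i₂

section Affine

variable {R : CommRingCat.{u}}

/-- The object `Spec B` over `Spec R`. -/
abbrev pr {B : CommRingCat.{u}} (f : R ⟶ B) : Over (Spec R) := Over.mk (Spec.map f)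

/-- The transition map. -/
abbrev trp {B B' : CommRingCat.{u}} (f : R ⟶ B) (g : B ⟶ B') : pr (f ≫ g) ⟶ pr f :=
  Over.homMk (Spec.map g) (Spec.map_comp f g).symm

theorem exists_pr {B : CommRingCat.{u}} (p : Spec B ⟶ Spec R) : ∃ f : R ⟶ B, Spec.map f = p :=
  ⟨Spec.preimage p, Spec.map_preimage p⟩

variable {H H₁ H₂ G : Over (Spec R)} [GrpObj H] [GrpObj H₁] [GrpObj H₂] [GrpObj G]
  {M M₁ M₂ : Type} [AddCommGroup M] [AddCommGroup M₁] [AddCommGroup M₂]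

/-- Characters and points over `Spec R`. -/
def Split.pr' (σ : Split H (𝟙 (Spec R)) M) {B : CommRingCat.{u}} (f : R ⟶ B) :
    (Multiplicative M →* B) ≃* (pr f ⟶ H) :=
  (σ.pt B (Spec.map f)).trans (precompEquiv (G := H)
    (Over.isoMk (Iso.refl _) (by simp) : pr f ≅ Over.mk (Spec.map f ≫ 𝟙 (Spec R))))

theorem Split.pr'_nat (σ : Split H (𝟙 (Spec R)) M) {B B' : CommRingCat.{u}} (f : R ⟶ B) (g : B ⟶ B')
    (χ : Multiplicative M →* B) : trp f g ≫ σ.pr' f χ = σ.pr' (f ≫ g) (g.hom.toMonoidHom.comp χ) := by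
  apply Over.OverMorphism.ext
  show Spec.map g ≫ 𝟙 _ ≫ (σ.pt B (Spec.map f) χ).left = 𝟙 _ ≫ (σ.pt B' (Spec.map (f ≫ g)) _).left
  rw [Category.id_comp, Category.id_comp]
  have key : ∀ (p p' : Spec B' ⟶ Spec R) (χ' : Multiplicative M →* B'), p = p' →
      (σ.pt B' p χ').left = (σ.pt B' p' χ').left := by
    rintro p p' χ' rfl; rfl
  rw [key _ _ _ (Spec.map_comp f g), ← σ.nat]
  rfl

/-- The transition map, up to an equation. -/
abbrev trq {B B' : CommRingCat.{u}} {f : R ⟶ B} {f' : R ⟶ B'} (g : B ⟶ B') (e : f ≫ g = f') : pr f' ⟶ pr f :=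
  Over.homMk (Spec.map g) (by rw [← e]; exact (Spec.map_comp f g).symm)

theorem Split.pr'_nat' (σ : Split H (𝟙 (Spec R)) M) {B B' : CommRingCat.{u}} {f : R ⟶ B} {f' : R ⟶ B'} (g : B ⟶ B')
    (e : f ≫ g = f') (χ : Multiplicative M →* B) : trq g e ≫ σ.pr' f χ = σ.pr' f' (g.hom.toMonoidHom.comp χ) := by
  subst e
  exact σ.pr'_nat f g χ

/-- A multiplicative family of group-likes gives a homomorphism. -/
theorem exists_hom_of_GL (σ₁ : Split H₁ (𝟙 (Spec R)) M₁) (σ₂ : Split H₂ (𝟙 (Spec R)) M₂) [IsAffine H₁.left]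
    (Φ : Multiplicative M₂ →* MonoidAlgebra R (Multiplicative M₁)) (hΦ : ∀ m, IsGL (Φ m)) :
    ∃ φ : H₁ ⟶ H₂, IsMonHom φ ∧ ∀ (B : CommRingCat.{u}) (f : R ⟶ B) (χ : Multiplicative M₁ →* B),
      σ₁.pr' f χ ≫ φ = σ₂.pr' f ((L f.hom χ).toMonoidHom.comp Φ) := by
  obtain ⟨f₀, hf₀⟩ := exists_pr (H₁.left.isoSpec.inv ≫ H₁.hom)
  let j : pr f₀ ⟶ H₁ := Over.homMk H₁.left.isoSpec.inv hf₀.symm
  let j' : H₁ ⟶ pr f₀ := Over.homMk H₁.left.isoSpec.hom (by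
    show H₁.left.isoSpec.hom ≫ Spec.map f₀ = H₁.hom
    rw [hf₀, Iso.hom_inv_id_assoc])
  obtain ⟨χ₀, hχ₀⟩ := (σ₁.pr' f₀).surjective j
  let φ : H₁ ⟶ H₂ := j' ≫ σ₂.pr' f₀ ((L f₀.hom χ₀).toMonoidHom.comp Φ)
  have hpt : ∀ (B : CommRingCat.{u}) (f : R ⟶ B) (χ : Multiplicative M₁ →* B),
      σ₁.pr' f χ ≫ φ = σ₂.pr' f ((L f.hom χ).toMonoidHom.comp Φ) := fun B f χ => by
    obtain ⟨g, hg⟩ : ∃ g : Γ(H₁.left, ⊤) ⟶ B, Spec.map g = (σ₁.pr' f χ).left ≫ H₁.left.isoSpec.hom :=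
      ⟨Spec.preimage _, Spec.map_preimage _⟩
    have hfg : f₀ ≫ g = f := Spec.map_injective (by
      rw [Spec.map_comp, hg, hf₀, Category.assoc, Iso.hom_inv_id_assoc]
      exact Over.w (σ₁.pr' f χ))
    subst hfg
    have hl : σ₁.pr' (f₀ ≫ g) χ ≫ j' = trp f₀ g := Over.OverMorphism.ext hg.symm
    have hj : trp f₀ g ≫ j = σ₁.pr' (f₀ ≫ g) χ := by
      rw [← hl, Category.assoc]
      have : j' ≫ j = 𝟙 H₁ := Over.OverMorphism.ext (Iso.hom_inv_id _)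
      rw [this, Category.comp_id]
    rw [← hχ₀, σ₁.pr'_nat] at hj
    have hχ : g.hom.toMonoidHom.comp χ₀ = χ := (σ₁.pr' _).injective hj
    show σ₁.pr' (f₀ ≫ g) χ ≫ j' ≫ _ = _
    rw [← Category.assoc, hl, σ₂.pr'_nat]
    congr 1
    ext m
    show g.hom (L f₀.hom χ₀ (Φ m)) = L (f₀ ≫ g).hom χ (Φ m)
    rw [← hχ]
    exact RingHom.congr_fun (comp_L g.hom f₀.hom χ₀) (Φ m)
  have hmul : ∀ {B : CommRingCat.{u}} (f : R ⟶ B) (a b : pr f ⟶ H₁), (a * b) ≫ φ = (a ≫ φ) * (b ≫ φ) := by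
    intro B f a b
    obtain ⟨χ, rfl⟩ := (σ₁.pr' f).surjective a
    obtain ⟨χ', rfl⟩ := (σ₁.pr' f).surjective b
    rw [← map_mul, hpt, hpt, hpt, ← map_mul]
    congr 1
    ext m
    exact (hΦ m f.hom χ χ').1
  refine ⟨φ, ⟨hom_ext_affine _ _ fun B p w => ?_, hom_ext_affine _ _ fun B p w => ?_⟩, hpt⟩
  · obtain ⟨f, rfl⟩ := exists_pr p
    have e : ∀ (K : Over (Spec R)) [GrpObj K], w ≫ η[K] = 1 := fun K _ => by
      rw [Hom.one_def, toUnit_unique w (toUnit _)]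
    rw [← Category.assoc, e H₁, e H₂]
    rw [← map_one (σ₁.pr' f), hpt, ← map_one (σ₂.pr' f)]
    congr 1
    ext m
    exact (hΦ m f.hom 1 1).2
  · obtain ⟨f, rfl⟩ := exists_pr p
    have h1 : w ≫ μ[H₁] = (w ≫ fst H₁ H₁) * (w ≫ snd H₁ H₁) := by
      rw [Hom.mul_def, ← comp_lift, lift_fst_snd, Category.comp_id]
    have h2 : w ≫ (φ ⊗ₘ φ) ≫ μ[H₂] = (w ≫ fst H₁ H₁ ≫ φ) * (w ≫ snd H₁ H₁ ≫ φ) := by
      rw [Hom.mul_def, ← Category.assoc]
      congr 1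
      apply CartesianMonoidalCategory.hom_ext <;> simp
    rw [← Category.assoc, h1, h2, hmul]
    simp

/-- The family of group-likes attached to a conjugating point. -/
theorem exists_GL_of_contain (σ₁ : Split H₁ (𝟙 (Spec R)) M₁) (σ₂ : Split H₂ (𝟙 (Spec R)) M₂)
    (i₁ : H₁ ⟶ G) [IsMonHom i₁] (i₂ : H₂ ⟶ G) [IsMonHom i₂] [Mono i₂]
    {R₀ : CommRingCat.{u}} (π : R ⟶ R₀) (x : pr π ⟶ G) (hx : Contain i₁ i₂ x) :
    ∃ Ψ : Multiplicative M₂ →* MonoidAlgebra R₀ (Multiplicative M₁), (∀ m, IsGL (Ψ m)) ∧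
      ∀ (B : CommRingCat.{u}) (f : R₀ ⟶ B) (χ : Multiplicative M₁ →* B),
        (trp π f ≫ x) * (σ₁.pr' (π ≫ f) χ ≫ i₁) * (trp π f ≫ x)⁻¹ =
          σ₂.pr' (π ≫ f) ((L f.hom χ).toMonoidHom.comp Ψ) ≫ i₂ := by
  let BM : CommRingCat.{u} := CommRingCat.of (MonoidAlgebra R₀ (Multiplicative M₁))
  let s1 : R₀ ⟶ BM := CommRingCat.ofHom MonoidAlgebra.singleOneRingHom
  obtain ⟨h', hh'⟩ := hx _ (trp π s1) (σ₁.pr' (π ≫ s1) (MonoidAlgebra.of R₀ (Multiplicative M₁)))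
  obtain ⟨Ψ, rfl⟩ := (σ₂.pr' (π ≫ s1)).surjective h'
  have key : ∀ (B : CommRingCat.{u}) (f : R₀ ⟶ B) (χ : Multiplicative M₁ →* B),
      (trp π f ≫ x) * (σ₁.pr' (π ≫ f) χ ≫ i₁) * (trp π f ≫ x)⁻¹ =
        σ₂.pr' (π ≫ f) ((L f.hom χ).toMonoidHom.comp Ψ) ≫ i₂ := fun B f χ => by
    let g : BM ⟶ B := CommRingCat.ofHom (L f.hom χ)
    have hg : s1 ≫ g = f := CommRingCat.hom_ext (L_comp_single f.hom χ)
    have hχ : g.hom.toMonoidHom.comp (MonoidAlgebra.of R₀ (Multiplicative M₁)) = χ := L_comp_of f.hom χ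
    have e : (π ≫ s1) ≫ g = π ≫ f := by rw [Category.assoc, hg]
    have ha : trp π f = trq g e ≫ trp π s1 := by
      apply Over.OverMorphism.ext
      show Spec.map f = Spec.map g ≫ Spec.map s1
      rw [← Spec.map_comp, hg]
    have := congrArg (fun z => trq g e ≫ z) hh'
    simp only [MonObj.comp_mul, GrpObj.comp_inv] at this
    simp only [← Category.assoc, σ₁.pr'_nat', σ₂.pr'_nat', ← ha, hχ] at this
    exact this
  refine ⟨Ψ, fun m {B'} _ f χ χ' => ?_, key⟩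
  let fc : R₀ ⟶ CommRingCat.of B' := CommRingCat.ofHom f
  have e1 := key _ fc χ
  have e2 := key _ fc χ'
  have e12 := key _ fc (χ * χ')
  have e0 := key _ fc 1
  constructor
  · have : σ₂.pr' (π ≫ fc) ((L fc.hom (χ * χ')).toMonoidHom.comp Ψ) =
        σ₂.pr' (π ≫ fc) ((L fc.hom χ).toMonoidHom.comp Ψ * (L fc.hom χ').toMonoidHom.comp Ψ) := by
      rw [← cancel_mono i₂, map_mul (σ₂.pr' (π ≫ fc)), MonObj.mul_comp, ← e1, ← e2, ← e12, map_mul,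
        MonObj.mul_comp]
      group
    exact DFunLike.congr_fun ((σ₂.pr' _).injective this) m
  · have : σ₂.pr' (π ≫ fc) ((L fc.hom 1).toMonoidHom.comp Ψ) = σ₂.pr' (π ≫ fc) 1 := by
      rw [← cancel_mono i₂, ← e0, map_one, map_one, MonObj.one_comp, MonObj.one_comp]
      group
    exact DFunLike.congr_fun ((σ₂.pr' _).injective this) m

theorem map_L_single {R₀ : CommRingCat.{u}} (π : R ⟶ R₀)
    (Φ : Multiplicative M₂ →* MonoidAlgebra R (Multiplicative M₁))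
    {B : CommRingCat.{u}} (f : R₀ ⟶ B) (χ : Multiplicative M₁ →* B) :
    (L (π ≫ f).hom χ).toMonoidHom.comp Φ =
      (L f.hom χ).toMonoidHom.comp ((MonoidAlgebra.mapRingHom (Multiplicative M₁) π.hom).toMonoidHom.comp Φ) := by
  ext m
  show L (f.hom.comp π.hom) χ (Φ m) = L f.hom χ (MonoidAlgebra.mapRingHom _ π.hom (Φ m))
  exact L_map π.hom f.hom χ (Φ m)

theorem exists_over_pr {R₀ : CommRingCat.{u}} (π : R ⟶ R₀) {B : CommRingCat.{u}} {p : Spec B ⟶ Spec R}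
    (w : Over.mk p ⟶ pr π) : ∃ f : R₀ ⟶ B, Spec.map (π ≫ f) = p ∧ Spec.map f = w.left := by
  refine ⟨Spec.preimage w.left, ?_, Spec.map_preimage _⟩
  rw [Spec.map_comp, Spec.map_preimage]
  exact Over.w w

/-- The reduction map between the two points. -/
abbrev redMap (N : Ideal R) : pr (CommRingCat.ofHom (Ideal.Quotient.mk N)) ⟶ pr (𝟙 R) :=
  Over.homMk (Spec.map (CommRingCat.ofHom (Ideal.Quotient.mk N)))
    (by show Spec.map _ ≫ Spec.map (𝟙 R) = Spec.map _; rw [Spec.map_id]; exact Category.comp_id _)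

/-- The point `x₀` lifts as a point of every transporter containing it. -/
def TransLifts (H : Over (Spec R)) [GrpObj H] (N : Ideal R)
    (x₀ : pr (CommRingCat.ofHom (Ideal.Quotient.mk N)) ⟶ G) : Prop :=
  ∀ (u₁ u₂ : H ⟶ G), IsMonHom u₁ → IsMonHom u₂ →
    (∀ (X' : Over (Spec R)) (s : X' ⟶ pr (CommRingCat.ofHom (Ideal.Quotient.mk N))) (h : X' ⟶ H),
      (s ≫ x₀) * (h ≫ u₁) * (s ≫ x₀)⁻¹ = h ≫ u₂) →
    ∃ x : pr (𝟙 R) ⟶ G,
      (∀ (X' : Over (Spec R)) (s : X' ⟶ pr (𝟙 R)) (h : X' ⟶ H), (s ≫ x) * (h ≫ u₁) * (s ≫ x)⁻¹ = h ≫ u₂) ∧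
        redMap N ≫ x = x₀

variable [IsAffine H₁.left]

/-- Conjugating points lift, forward and backward, as soon as transporter points lift. -/
theorem exists_contain_lift_of (σ₁ : Split H₁ (𝟙 (Spec R)) M₁) (σ₂ : Split H₂ (𝟙 (Spec R)) M₂)
    (i₁ : H₁ ⟶ G) [IsMonHom i₁] (i₂ : H₂ ⟶ G) [IsMonHom i₂] [Mono i₁] [Mono i₂] (N : Ideal R) (hN : N ^ 2 = ⊥)
    (x₀ : pr (CommRingCat.ofHom (Ideal.Quotient.mk N)) ⟶ G) (hT : TransLifts H₁ N x₀)
    (h₀ : Contain i₁ i₂ x₀) :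
    ∃ x : pr (𝟙 R) ⟶ G,
      Contain i₁ i₂ x ∧ (Contain i₂ i₁ x₀⁻¹ → Contain i₂ i₁ x⁻¹) ∧
      (Over.homMk (Spec.map (CommRingCat.ofHom (Ideal.Quotient.mk N)))
        (by show Spec.map _ ≫ Spec.map (𝟙 R) = Spec.map _; rw [Spec.map_id]; exact Category.comp_id _) :
        pr (CommRingCat.ofHom (Ideal.Quotient.mk N)) ⟶ pr (𝟙 R)) ≫ x = x₀ := by
  let π := CommRingCat.ofHom (Ideal.Quotient.mk N)
  have hN' : IsNilpotent N := ⟨2, hN⟩
  obtain ⟨Ψ, hΨ, hΨx⟩ := exists_GL_of_contain σ₁ σ₂ i₁ i₂ π x₀ h₀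
  obtain ⟨Φ, hΦ, hΦΨ⟩ := exists_GL_hom_lift hN' Ψ hΨ
  obtain ⟨φ, hφ, hφpt⟩ := exists_hom_of_GL σ₁ σ₂ Φ hΦ
  have hred : ∀ (B : CommRingCat.{u}) (f : CommRingCat.of (R ⧸ N) ⟶ B) (χ : Multiplicative M₁ →* B),
      σ₁.pr' (π ≫ f) χ ≫ φ = σ₂.pr' (π ≫ f) ((L f.hom χ).toMonoidHom.comp Ψ) := fun B f χ => by
    rw [hφpt, map_L_single]
    exact congrArg (fun z => σ₂.pr' (π ≫ f) ((L f.hom χ).toMonoidHom.comp z)) hΦΨ
  have hfix : ∀ (X' : Over (Spec R)) (s : X' ⟶ _) (h : X' ⟶ H₁),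
      (s ≫ x₀) * (h ≫ i₁) * (s ≫ x₀)⁻¹ = h ≫ φ ≫ i₂ := fun X' s h => by
    refine hom_ext_affine _ _ fun B p w => ?_
    obtain ⟨f, hf, hfw⟩ := exists_over_pr π (w ≫ s)
    subst hf
    have ew : w ≫ s = trp π f := Over.OverMorphism.ext hfw.symm
    obtain ⟨χ, hχ⟩ := (σ₁.pr' (π ≫ f)).surjective (w ≫ h)
    simp only [MonObj.comp_mul, GrpObj.comp_inv]
    rw [← Category.assoc w h, ← Category.assoc w s, ew,
      ← Category.assoc w h, ← hχ, hΨx, ← hred, Category.assoc]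
  haveI := hφ
  obtain ⟨x, hx, hxx⟩ := hT i₁ (φ ≫ i₂) inferInstance inferInstance hfix
  refine ⟨x, fun X' s h => ⟨h ≫ φ, ?_⟩, fun h₀' => ?_, hxx⟩
  · rw [Category.assoc]
    exact hx X' s h
  · obtain ⟨Ψ', hΨ', hΨ'x⟩ := exists_GL_of_contain σ₂ σ₁ i₂ i₁ π x₀⁻¹ h₀'
    obtain ⟨Φ', hΦ', hΦΨ'⟩ := exists_GL_hom_lift hN' Ψ' hΨ'
    -- `Φ'` is inverse to `Φ` modulo `N`, hence inverse
    have hinv : ∀ m, L MonoidAlgebra.singleOneRingHom Φ' (Φ m) = MonoidAlgebra.single m 1 := fun m => by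
      refine IsGL.eq_of_map hN' (IsGL.comp (hΦ m) Φ' hΦ') (IsGL.single m) ?_
      rw [MonoidAlgebra.mapRingHom_single, map_one]
      let BM : CommRingCat.{u} := CommRingCat.of (MonoidAlgebra (R ⧸ N) (Multiplicative M₂))
      let t1 : CommRingCat.of (R ⧸ N) ⟶ BM := CommRingCat.ofHom MonoidAlgebra.singleOneRingHom
      let χ₂ := MonoidAlgebra.of (R ⧸ N) (Multiplicative M₂)
      have a1 := hΨ'x BM t1 χ₂
      have a2 := hΨx BM t1 ((L t1.hom χ₂).toMonoidHom.comp Ψ')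
      rw [← a1, GrpObj.comp_inv, inv_inv] at a2
      have : σ₂.pr' (π ≫ t1) ((L t1.hom ((L t1.hom χ₂).toMonoidHom.comp Ψ')).toMonoidHom.comp Ψ) =
          σ₂.pr' (π ≫ t1) χ₂ := by
        rw [← cancel_mono i₂, ← a2]
        group
      have e := DFunLike.congr_fun ((σ₂.pr' _).injective this) m
      have hmap : MonoidAlgebra.mapRingHom (Multiplicative M₂) (Ideal.Quotient.mk N)
          (L MonoidAlgebra.singleOneRingHom Φ' (Φ m)) =
          L t1.hom ((L t1.hom χ₂).toMonoidHom.comp Ψ') (Ψ m) := by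
        rw [← DFunLike.congr_fun hΦΨ m]
        show (MonoidAlgebra.mapRingHom (Multiplicative M₂) (Ideal.Quotient.mk N)).comp _ (Φ m) =
          L t1.hom _ (MonoidAlgebra.mapRingHom _ (Ideal.Quotient.mk N) (Φ m))
        rw [← L_map, comp_L]
        congr 2
        · refine RingHom.ext fun c => ?_; simp [t1]; rfl
        · rw [← hΦΨ']
          refine MonoidHom.ext fun g => ?_
          show _ = L t1.hom χ₂ (MonoidAlgebra.mapRingHom _ (Ideal.Quotient.mk N) (Φ' g))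
          rw [← L_map]
          show MonoidAlgebra.mapRingHom _ (Ideal.Quotient.mk N) (Φ' g) = _
          refine (RingHom.congr_fun (L_single_of (G := Multiplicative M₂) (Ideal.Quotient.mk N)) (Φ' g)).symm.trans ?_
          rfl
      rw [hmap]
      exact e
    intro X' s h₂
    rw [GrpObj.comp_inv, inv_inv]
    -- the inverse homomorphism on affine points
    have hsurj : ∀ (B : CommRingCat.{u}) (f : R ⟶ B) (χ₂ : Multiplicative M₂ →* B),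
        σ₁.pr' f ((L f.hom χ₂).toMonoidHom.comp Φ') ≫ φ = σ₂.pr' f χ₂ := fun B f χ₂ => by
      rw [hφpt]
      congr 1
      ext m
      show L f.hom ((L f.hom χ₂).toMonoidHom.comp Φ') (Φ m) = χ₂ m
      rw [← L_L, hinv, L_single, map_one, _root_.one_mul]
    obtain ⟨h₁, hh₁⟩ : ∃ h₁ : X' ⟶ H₁, h₁ ≫ φ = h₂ := by
      -- glue over an affine cover
      have hmono : ∀ (B : CommRingCat.{u}) (p : Spec B ⟶ Spec R) (w : Over.mk p ⟶ X') (a b : Over.mk p ⟶ H₁),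
          a ≫ φ = b ≫ φ → a = b := fun B p w a b hab => by
        have ha := hx _ (w ≫ s) a
        have hb := hx _ (w ≫ s) b
        rw [← Category.assoc a, hab, Category.assoc b φ i₂, ← hb] at ha
        simpa [cancel_mono] using ha
      let 𝒰 := X'.left.affineCover
      have hloc : ∀ k, ∃ a : Over.mk (𝒰.f k ≫ X'.hom) ⟶ H₁,
          a ≫ φ = (Over.homMk (𝒰.f k) rfl : Over.mk (𝒰.f k ≫ X'.hom) ⟶ X') ≫ h₂ := fun k => by
        generalize (Over.homMk (𝒰.f k) rfl : Over.mk (𝒰.f k ≫ X'.hom) ⟶ X') ≫ h₂ = z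
        revert z
        obtain ⟨f, hf⟩ := exists_pr (𝒰.f k ≫ X'.hom)
        rw [← hf]
        intro z
        obtain ⟨χ₂, rfl⟩ := (σ₂.pr' f).surjective z
        exact ⟨_, hsurj _ f χ₂⟩
      choose a ha using hloc
      let h₁ : X'.left ⟶ H₁.left := 𝒰.glueMorphisms (fun k => (a k).left) (fun k l => by
        let P := pullback (𝒰.f k) (𝒰.f l)
        let W : Over (Spec R) := Over.mk (pullback.fst (𝒰.f k) (𝒰.f l) ≫ 𝒰.f k ≫ X'.hom)
        let wk : W ⟶ Over.mk (𝒰.f k ≫ X'.hom) := Over.homMk (pullback.fst (𝒰.f k) (𝒰.f l)) rfl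
        let wl : W ⟶ Over.mk (𝒰.f l ≫ X'.hom) := Over.homMk (pullback.snd (𝒰.f k) (𝒰.f l))
          (pullback.condition_assoc _).symm
        refine congrArg CommaMorphism.left (hom_ext_affine (wk ≫ a k) (wl ≫ a l) fun B p w => ?_)
        refine hmono B p (w ≫ wk ≫ Over.homMk (𝒰.f k) rfl) _ _ ?_
        simp only [Category.assoc, ha]
        rw [← Category.assoc wk, ← Category.assoc wl]
        congr 2
        exact Over.OverMorphism.ext pullback.condition)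
      refine ⟨Over.homMk h₁ ?_, Over.OverMorphism.ext (𝒰.hom_ext _ _ fun k => ?_)⟩
      · refine 𝒰.hom_ext _ _ fun k => ?_
        rw [Scheme.Cover.ι_glueMorphisms_assoc]
        exact Over.w (a k)
      · show 𝒰.f k ≫ h₁ ≫ φ.left = 𝒰.f k ≫ h₂.left
        rw [Scheme.Cover.ι_glueMorphisms_assoc]
        exact congrArg CommaMorphism.left (ha k)
    refine ⟨h₁, ?_⟩
    have := hx X' s h₁
    rw [← Category.assoc h₁, hh₁] at this
    rw [← this]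
    group

/-- Conjugating points lift, forward and backward. -/
theorem exists_contain_lift [IsAffineHom G.hom] [Smooth G.hom]
    (σ₁ : Split H₁ (𝟙 (Spec R)) M₁) (σ₂ : Split H₂ (𝟙 (Spec R)) M₂)
    (i₁ : H₁ ⟶ G) [IsMonHom i₁] (i₂ : H₂ ⟶ G) [IsMonHom i₂] [Mono i₁] [Mono i₂] (N : Ideal R) (hN : N ^ 2 = ⊥)
    (x₀ : pr (CommRingCat.ofHom (Ideal.Quotient.mk N)) ⟶ G) (h₀ : Contain i₁ i₂ x₀) :
    ∃ x : pr (𝟙 R) ⟶ G,
      Contain i₁ i₂ x ∧ (Contain i₂ i₁ x₀⁻¹ → Contain i₂ i₁ x⁻¹) ∧ redMap N ≫ x = x₀ := by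
  refine exists_contain_lift_of σ₁ σ₂ i₁ i₂ N hN x₀ (fun u₁ u₂ h₁ h₂ hfix => ?_) h₀
  let π := CommRingCat.ofHom (Ideal.Quotient.mk N)
  let ι₀ : Over.mk ((Spec.map π ≫ 𝟙 (Spec R)) ≫ 𝟙 (Spec R)) ⟶ pr π :=
    Over.homMk (𝟙 _) (by simp only [Category.id_comp, Category.comp_id]; rfl)
  obtain ⟨x, hx, hxx⟩ := exists_transporter_lift σ₁ u₁ u₂ R (𝟙 _) N hN (ι₀ ≫ x₀) (fun X' s h => by
    rw [← Category.assoc]; exact hfix X' (s ≫ ι₀) h)
  let ιc : pr (𝟙 R) ⟶ Over.mk (𝟙 (Spec R) ≫ 𝟙 (Spec R)) := Over.homMk (𝟙 _) (by simp)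
  refine ⟨ιc ≫ x, fun X' s h => by rw [← Category.assoc s]; exact hx X' (s ≫ ιc) h, ?_⟩
  apply Over.OverMorphism.ext
  have := congrArg CommaMorphism.left hxx
  simpa [redMap, ιc, ι₀] using this

end Affine

end Groth.Agent.FixedSmooth
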