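import Groth.Agent.FixedSmooth.Normalizer
import Groth.Agent.FixedSmooth.SmoothFixed
/-!
Centralisers and normalisers of closed subgroups of multiplicative type in smooth separated groups are smooth.
-/

set_option autoImplicit false
set_option backward.isDefEq.respectTransparency false
set_option backward.isDefEq.respectTransparency.types false
set_option linter.style.haveILetI false

universe u

open CategoryTheory CategoryTheory.Limits MonoidalCategory CartesianMonoidalCategory MonObj AlgebraicGeometry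

noncomputable section

namespace Groth.Agent.FixedSmooth

open WeilClosedLib

section Affine

variable {R : CommRingCat.{u}} {H G : Over (Spec R)} [GrpObj H] [GrpObj G] {M : Type} [AddCommGroup M]

/-- Transporter points near an affine chart lift. -/
theorem transLifts_of_chart (σ : Split H (𝟙 (Spec R)) M) (hfree : SGA3x.IsEssentiallyFree H.hom)
    [IsSeparated G.hom] (W : G.left.Opens) (hW : IsAffineOpen W) [Smooth (W.ι ≫ G.hom)]
    (N : Ideal R) (hN : N ^ 2 = ⊥) (x₀ : pr (CommRingCat.ofHom (Ideal.Quotient.mk N)) ⟶ G)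
    (hxW : Set.range x₀.left ⊆ (W : Set G.left)) : TransLifts H N x₀ := fun u₁ u₂ h₁ h₂ hfix => by
  haveI := h₁
  haveI := h₂
  obtain ⟨F, f, hf, hF, -⟩ := exists_closed_fixed hfree (conjAct u₁ u₂)
  haveI := hf
  haveI : IsAffine W.toScheme := hW
  haveI : IsAffine (pullback (W.ι ≫ G.hom) (𝟙 (Spec R) ≫ 𝟙 (Spec R))) :=
    IsAffine.of_isIso (pullback.fst (W.ι ≫ G.hom) (𝟙 (Spec R) ≫ 𝟙 (Spec R)))
  let π := CommRingCat.ofHom (Ideal.Quotient.mk N)
  let ι₀ : Over.mk ((Spec.map π ≫ 𝟙 (Spec R)) ≫ 𝟙 (Spec R)) ⟶ pr π :=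
    Over.homMk (𝟙 _) (by simp only [Category.id_comp, Category.comp_id]; rfl)
  have hr : Set.range x₀.left ⊆ Set.range W.ι := by rwa [Scheme.Opens.range_ι]
  let z₀ := IsOpenImmersion.lift W.ι x₀.left hr
  have hz₀ : (z₀ ≫ W.ι) ≫ G.hom = (Spec.map π ≫ 𝟙 (Spec R)) ≫ 𝟙 (Spec R) := by
    simp only [z₀, IsOpenImmersion.lift_fac, Category.comp_id]
    exact Over.w x₀
  obtain ⟨x, z, hzx, hx, hzz⟩ := exists_fixed_lift_local (conjAct u₁ u₂) (conjAct_act u₁ u₂) f hF W σ R (𝟙 _) N hN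
    z₀ hz₀ (fun X' s h => by
      refine (fixed_iff u₁ u₂ h _).2 ?_
      have e : (Over.homMk (z₀ ≫ W.ι) hz₀ : Over.mk ((Spec.map π ≫ 𝟙 (Spec R)) ≫ 𝟙 (Spec R)) ⟶ G) = ι₀ ≫ x₀ := by
        apply Over.OverMorphism.ext
        show z₀ ≫ W.ι = 𝟙 _ ≫ x₀.left
        rw [Category.id_comp, IsOpenImmersion.lift_fac]
      rw [e, ← Category.assoc]
      exact hfix X' (s ≫ ι₀) h)
  let ιc : pr (𝟙 R) ⟶ Over.mk (𝟙 (Spec R) ≫ 𝟙 (Spec R)) := Over.homMk (𝟙 _) (by simp)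
  refine ⟨ιc ≫ x, fun X' s h => ?_, ?_⟩
  · rw [← Category.assoc s]
    exact (fixed_iff u₁ u₂ h _).1 (hx X' (s ≫ ιc) h)
  · apply Over.OverMorphism.ext
    show Spec.map π ≫ 𝟙 _ ≫ x.left = x₀.left
    rw [Category.id_comp, ← hzx, ← Category.assoc, hzz, IsOpenImmersion.lift_fac]

end Affine

variable {S : Scheme.{u}} {H₁ H₂ G : Over S} [GrpObj H₁] [GrpObj H₂] [GrpObj G] [IsSeparated G.hom] [Smooth G.hom]

/-- Containment points near an affine chart lift along square-zero thickenings. -/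
theorem exists_contain_lift_chart_local {U : Scheme.{u}} {b : U ⟶ S} {M₁ M₂ : Type} [AddCommGroup M₁] [AddCommGroup M₂]
    (σ₁ : Split H₁ b M₁) (σ₂ : Split H₂ b M₂) [IsAffineHom H₁.hom] (hfree : SGA3x.IsEssentiallyFree H₁.hom)
    (i₁ : H₁ ⟶ G) [IsMonHom i₁] [Mono i₁] (i₂ : H₂ ⟶ G) [IsMonHom i₂] [Mono i₂]
    (V : S.Opens) (hV : IsAffineOpen V) (W : G.left.Opens) (hW : IsAffineOpen W) (hWV : W ≤ G.hom ⁻¹ᵁ V)
    (B : CommRingCat.{u}) (q : Spec B ⟶ U) (qV : Spec B ⟶ V.toScheme) (hqV : qV ≫ V.ι = q ≫ b)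
    (N : Ideal B) (hN : N ^ 2 = ⊥)
    (x₀ : Over.mk ((Spec.map (CommRingCat.ofHom (Ideal.Quotient.mk N)) ≫ q) ≫ b) ⟶ G)
    (hxW : Set.range x₀.left ⊆ (W : Set G.left)) (h₀ : Contain i₁ i₂ x₀) :
    ∃ x : Over.mk (q ≫ b) ⟶ G, Contain i₁ i₂ x ∧ (Contain i₂ i₁ x₀⁻¹ → Contain i₂ i₁ x⁻¹) ∧
      tr b q (CommRingCat.ofHom (Ideal.Quotient.mk N)) ≫ x = x₀ := by
  let t := q ≫ b
  let π := CommRingCat.ofHom (Ideal.Quotient.mk N)
  haveI : IsAffine V.toScheme := hV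
  haveI : IsAffine W.toScheme := hW
  haveI : IsAffineHom (Red.bc t H₁).hom := MorphismProperty.pullback_snd (P := @IsAffineHom) _ _ ‹IsAffineHom H₁.hom›
  haveI : IsAffine (Red.bc t H₁).left := isAffine_of_isAffineHom (Red.bc t H₁).hom
  haveI : IsSeparated (Red.bc t G).hom := MorphismProperty.pullback_snd (P := @IsSeparated) _ _ ‹IsSeparated G.hom›
  haveI : Smooth (Red.bc t G).hom := MorphismProperty.pullback_snd (P := @Smooth) _ _ ‹Smooth G.hom›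
  haveI : IsAffine (pullback (W.ι ≫ G.hom) t) :=
    isAffine_pullback_of_factor V _ _ (G.hom.resLE V W hWV) qV (Scheme.Hom.resLE_comp_ι _ _) hqV
  let W' : (Red.bc t G).left.Opens := pullback.fst G.hom t ⁻¹ᵁ W
  have hW' : IsAffineOpen W' := by
    let sq := (isPullback_morphismRestrict (pullback.fst G.hom t) W).paste_vert (IsPullback.of_hasPullback G.hom t)
    exact IsAffine.of_isIso sq.isoPullback.hom
  let io₀ : (Over.map t).obj (pr π) ≅ Over.mk ((Spec.map π ≫ q) ≫ b) := Over.isoMk (Iso.refl _) (by simp [t])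
  let io : (Over.map t).obj (pr (𝟙 B)) ≅ Over.mk (q ≫ b) := Over.isoMk (Iso.refl _) (by
    show 𝟙 _ ≫ q ≫ b = Spec.map (𝟙 B) ≫ t
    rw [Spec.map_id])
  let y₀ := adjEquiv t G (pr π) (io₀.hom ≫ x₀)
  have hyW : Set.range y₀.left ⊆ (W' : Set (Red.bc t G).left) := by
    rintro _ ⟨p, rfl⟩
    have e : y₀.left ≫ pullback.fst G.hom t = x₀.left := by
      show ((Over.mapPullbackAdj t).homEquiv (pr π) G (io₀.hom ≫ x₀)).left ≫ pullback.fst G.hom t = x₀.left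
      simp [Adjunction.homEquiv_unit, Over.mapPullbackAdj, io₀]
    show pullback.fst G.hom t (y₀.left p) ∈ W
    erw [← Scheme.Hom.comp_apply, e]
    exact hxW ⟨p, rfl⟩
  have hfree' : SGA3x.IsEssentiallyFree (Red.bc t H₁).hom := isEssentiallyFree_baseChange H₁.hom t hfree
  obtain ⟨x', hx', hx'', hxx⟩ := exists_contain_lift_of (H₁ := Red.bc t H₁) (H₂ := Red.bc t H₂) (G := Red.bc t G)
    (σ₁.bc t (𝟙 _) q (by simp [t])) (σ₂.bc t (𝟙 _) q (by simp [t]))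
    ((Over.pullback t).map i₁) ((Over.pullback t).map i₂) N hN y₀
    (transLifts_of_chart (σ₁.bc t (𝟙 _) q (by simp [t])) hfree' W' hW' N hN y₀ hyW)
    (contain_adj t i₁ i₂ _ (h₀.comp io₀.hom))
  obtain ⟨x, rfl⟩ := (adjEquiv t G (pr (𝟙 B))).surjective x'
  refine ⟨io.inv ≫ x, (contain_of_adj t i₁ i₂ x hx').comp _, fun h => ?_, ?_⟩
  · rw [← GrpObj.comp_inv]
    refine Contain.comp _ (contain_of_adj t i₂ i₁ x⁻¹ ?_)
    rw [map_inv]
    refine hx'' ?_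
    rw [← map_inv, ← GrpObj.comp_inv]
    exact contain_adj t i₂ i₁ _ (h.comp io₀.hom)
  · rw [← adjEquiv_nat] at hxx
    have e := congrArg CommaMorphism.left ((adjEquiv t G (pr π)).injective hxx)
    apply Over.OverMorphism.ext
    show Spec.map π ≫ 𝟙 _ ≫ x.left = x₀.left
    rw [Category.id_comp]
    exact e.trans (Category.id_comp _)

/-- The transporter of a closed `H₁` onto a closed `H₂` is closed and smooth. -/
theorem exists_smooth_conj_closed (h₁ : IsMultTypeLoc H₁) (h₂ : IsMultTypeLoc H₂)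
    (hl₁ : LocallyOfFinitePresentation H₁.hom) (hl₂ : LocallyOfFinitePresentation H₂.hom)
    (i₁ : H₁ ⟶ G) [IsMonHom i₁] [Mono i₁] [IsClosedImmersion i₁.left]
    (i₂ : H₂ ⟶ G) [IsMonHom i₂] [Mono i₂] [IsClosedImmersion i₂.left] :
    ∃ (T : Over S) (j : T ⟶ G), IsClosedImmersion j.left ∧ Smooth T.hom ∧
      ∀ (X : Over S) (g : X ⟶ G), (∃ z : X ⟶ T, z ≫ j = g) ↔ Contain i₁ i₂ g ∧ Contain i₂ i₁ g⁻¹ := by
  haveI := isAffineHom_of_isMultTypeLoc h₁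
  haveI : LocallyOfFinitePresentation i₁.left := by
    haveI : LocallyOfFinitePresentation (i₁.left ≫ G.hom) := by rw [Over.w]; exact hl₁
    exact FlatLocus.locallyOfFinitePresentation_of_comp i₁.left G.hom
  haveI : LocallyOfFinitePresentation i₂.left := by
    haveI : LocallyOfFinitePresentation (i₂.left ≫ G.hom) := by rw [Over.w]; exact hl₂
    exact FlatLocus.locallyOfFinitePresentation_of_comp i₂.left G.hom
  obtain ⟨C₁, c₁, hc₁, hr₁, hl'⟩ := exists_transporter_into (isEssentiallyFree_of_isMultTypeLoc H₁ h₁) i₁ i₂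
  haveI := hl' (quasiCompact_of_isMultTypeLoc H₁ h₁) inferInstance
  obtain ⟨C₂, c₂, hc₂, hr₂, hl''⟩ := exists_transporter_into (isEssentiallyFree_of_isMultTypeLoc H₂ h₂) i₂ i₁
  haveI := hl'' (quasiCompact_of_isMultTypeLoc H₂ h₂) inferInstance
  obtain ⟨E, k, hk, hkl, hE⟩ := exists_closed_preimage c₁⁻¹ c₂
  haveI := hkl inferInstance
  haveI : IsClosedImmersion (k ≫ c₁).left := inferInstanceAs (IsClosedImmersion (k.left ≫ c₁.left))
  haveI : LocallyOfFinitePresentation E.hom := by rw [← Over.w (k ≫ c₁), Over.comp_left]; infer_instance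
  have hrep : ∀ (X : Over S) (g : X ⟶ G), (∃ z : X ⟶ E, z ≫ k ≫ c₁ = g) ↔
      Contain i₁ i₂ g ∧ Contain i₂ i₁ g⁻¹ := fun X g => by
    constructor
    · rintro ⟨z, rfl⟩
      obtain ⟨m, hm⟩ := (hE X (z ≫ k)).1 ⟨z, rfl⟩
      rw [GrpObj.comp_inv, Category.assoc] at hm
      exact ⟨(hr₁ X _).1 ⟨z ≫ k, Category.assoc _ _ _⟩, (hr₂ X _).1 ⟨m, hm.symm⟩⟩
    · rintro ⟨hg, hg'⟩
      obtain ⟨z, rfl⟩ := (hr₁ X g).2 hg
      obtain ⟨m, hm⟩ := (hr₂ X _).2 hg'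
      obtain ⟨l, hl⟩ := (hE X z).2 ⟨m, by rw [GrpObj.comp_inv, hm]⟩
      exact ⟨l, by rw [← Category.assoc, hl]⟩
  obtain ⟨S', c, hc, hqc, hloc⟩ := exists_common_cover h₁ h₂
  refine ⟨E, k ≫ c₁, inferInstance, smooth_of_chart_lifts (k ≫ c₁) c hc hqc fun s' => ?_, hrep⟩
  obtain ⟨U, hU, M₁, _, M₂, _, ⟨σ₁⟩, ⟨σ₂⟩⟩ := hloc s'
  refine ⟨U, hU, fun V hV W hW hWV B q qV hqV N hN z hz hzW => ?_⟩
  let z₀ : Over.mk ((Spec.map (CommRingCat.ofHom (Ideal.Quotient.mk N)) ≫ q) ≫ U.ι ≫ c) ⟶ E := Over.homMk z hz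
  obtain ⟨g₁, g₂⟩ := (hrep _ (z₀ ≫ k ≫ c₁)).1 ⟨z₀, rfl⟩
  obtain ⟨x, hx, hx', hxx⟩ := exists_contain_lift_chart_local σ₁ σ₂ (isEssentiallyFree_of_isMultTypeLoc H₁ h₁)
    i₁ i₂ V hV W hW hWV B q qV hqV N hN (z₀ ≫ k ≫ c₁) hzW g₁
  obtain ⟨w, hw⟩ := (hrep _ x).2 ⟨hx, hx' g₂⟩
  refine ⟨w.left, Over.w w, ?_⟩
  rw [← cancel_mono (k ≫ c₁).left, Category.assoc]
  have := congrArg CommaMorphism.left hxx
  rw [← hw] at this
  exact this

theorem contain_pair_iff_sep {K₁ K₂ G : Over S} [GrpObj G] (i₁ : K₁ ⟶ G) (i₂ : K₂ ⟶ G) {X : Over S} (g : X ⟶ G) :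
    (Contain i₁ i₂ g ∧ Contain i₂ i₁ g⁻¹) ↔ ∀ (X' : Over S) (x : X' ⟶ X),
      (∀ h₁ : X' ⟶ K₁, ∃ h₂ : X' ⟶ K₂, (x ≫ g) * (h₁ ≫ i₁) * (x ≫ g)⁻¹ = h₂ ≫ i₂) ∧
      (∀ h₂ : X' ⟶ K₂, ∃ h₁ : X' ⟶ K₁, (x ≫ g)⁻¹ * (h₂ ≫ i₂) * (x ≫ g) = h₁ ≫ i₁) :=
  ⟨fun ⟨a, b⟩ X' x => ⟨fun h => a X' x h, fun h => by simpa [GrpObj.comp_inv] using b X' x h⟩,
    fun h => ⟨fun X' x h₁ => (h X' x).1 h₁, fun X' x h₂ => by
      simpa [GrpObj.comp_inv] using (h X' x).2 h₂⟩⟩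

/-- The normaliser of a subgroup of multiplicative type is a closed smooth subgroup. -/
theorem exists_smooth_normalizer_closed {H : Over S} [GrpObj H] (hH : IsMultTypeLoc H)
    (hl : LocallyOfFinitePresentation H.hom) (i : H ⟶ G) [IsMonHom i] [Mono i] [IsClosedImmersion i.left] :
    ∃ (N : Over S) (_ : GrpObj N) (j : N ⟶ G), Red.IsNormalizerOf i j ∧ IsClosedImmersion j.left ∧ Smooth N.hom := by
  obtain ⟨N, j, hj, hs, hrep⟩ := exists_smooth_conj_closed hH hH hl hl i i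
  have key : ∀ (X : Over S) (g : X ⟶ G), (∃ z : X ⟶ N, z ≫ j = g) ↔
      ∀ (X' : Over S) (x : X' ⟶ X) (h : X' ⟶ H),
        (∃ h' : X' ⟶ H, (x ≫ g) * (h ≫ i) * (x ≫ g)⁻¹ = h' ≫ i) ∧
        (∃ h' : X' ⟶ H, (x ≫ g)⁻¹ * (h ≫ i) * (x ≫ g) = h' ≫ i) := fun X g =>
    (hrep X g).trans ((contain_pair_iff_sep i i g).trans
      ⟨fun h X' x h₁ => ⟨(h X' x).1 h₁, (h X' x).2 h₁⟩,
        fun h X' x => ⟨fun h₁ => (h X' x h₁).1, fun h₁ => (h X' x h₁).2⟩⟩)
  haveI : Mono j := ⟨fun a b e => Over.OverMorphism.ext ((cancel_mono j.left).1 (congrArg CommaMorphism.left e))⟩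
  obtain ⟨str, hmon⟩ := exists_grpObj_of_closed j
    ((key _ η[G]).2 fun X' x h => by
      have e : x ≫ η[G] = 1 := by rw [Hom.one_def, toUnit_unique x (toUnit _)]
      exact ⟨⟨h, by simp [e]⟩, ⟨h, by simp [e]⟩⟩)
    (fun W a b => (key W ((a ≫ j) * (b ≫ j))).2 fun S'' s x => by
      have qa := (key W (a ≫ j)).1 ⟨a, rfl⟩
      have qb := (key W (b ≫ j)).1 ⟨b, rfl⟩
      refine ⟨?_, ?_⟩
      · obtain ⟨x₁, h₁⟩ := (qb S'' s x).1
        obtain ⟨x₂, h₂⟩ := (qa S'' s x₁).1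
        refine ⟨x₂, ?_⟩
        rw [← h₂, ← h₁, MonObj.comp_mul]
        group
      · obtain ⟨x₁, h₁⟩ := (qa S'' s x).2
        obtain ⟨x₂, h₂⟩ := (qb S'' s x₁).2
        refine ⟨x₂, ?_⟩
        rw [← h₂, ← h₁, MonObj.comp_mul]
        group)
    (fun W a => (key W (a ≫ j)⁻¹).2 fun S'' s x => by
      have qa := (key W (a ≫ j)).1 ⟨a, rfl⟩
      simp only [GrpObj.comp_inv, inv_inv]
      exact ⟨(qa S'' s x).2, (qa S'' s x).1⟩)
  exact ⟨N, str, j, ⟨hmon, inferInstance, key⟩, hj, hs⟩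


/-- The centraliser of a homomorphism is a closed smooth subgroup. -/
theorem exists_smooth_centralizer_separated {H : Over S} [GrpObj H] (hH : IsMultTypeLoc H) (u : H ⟶ G) [IsMonHom u] :
    ∃ (Z : Over S) (_ : GrpObj Z) (j : Z ⟶ G), Red.IsCentralizerOf u j ∧ IsClosedImmersion j.left ∧ Smooth Z.hom := by
  obtain ⟨Z, j, hj, hs, hrep'⟩ := exists_smooth_fixed hH (conjAct u u) (conjAct_act u u)
  have hrep : ∀ (X : Over S) (g : X ⟶ G), (∃ z : X ⟶ Z, z ≫ j = g) ↔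
      ∀ (X' : Over S) (x : X' ⟶ X) (h : X' ⟶ H), (x ≫ g) * (h ≫ u) * (x ≫ g)⁻¹ = h ≫ u := fun X g =>
    (hrep' X g).trans (forall₃_congr fun X' x h => fixed_iff u u h _)
  have key : ∀ (X : Over S) (g : X ⟶ G), (∃ z : X ⟶ Z, z ≫ j = g) ↔
      ∀ (X' : Over S) (x : X' ⟶ X) (h : X' ⟶ H), (x ≫ g) * (h ≫ u) = (h ≫ u) * (x ≫ g) := fun X g =>
    (hrep X g).trans (forall₃_congr fun X' x h => mul_inv_eq_iff_eq_mul)
  haveI : Mono j := ⟨fun a b e => Over.OverMorphism.ext ((cancel_mono j.left).1 (congrArg CommaMorphism.left e))⟩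
  obtain ⟨str, hmon⟩ := exists_grpObj_of_closed j
    ((key _ η[G]).2 fun X' x h => by
      have e : x ≫ η[G] = 1 := by rw [Hom.one_def, toUnit_unique x (toUnit _)]
      simp [e])
    (fun W a b => (key W ((a ≫ j) * (b ≫ j))).2 fun X' x h => by
      have qa := (key W (a ≫ j)).1 ⟨a, rfl⟩ X' x h
      have qb := (key W (b ≫ j)).1 ⟨b, rfl⟩ X' x h
      rw [MonObj.comp_mul]
      exact Commute.mul_left qa qb)
    (fun W a => (key W (a ≫ j)⁻¹).2 fun X' x h => by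
      have qa := (key W (a ≫ j)).1 ⟨a, rfl⟩ X' x h
      rw [GrpObj.comp_inv]
      exact Commute.inv_left qa)
  exact ⟨Z, str, j, ⟨hmon, inferInstance, key⟩, hj, hs⟩

/-- A group containing a separated group as a closed subgroup is separated. -/
theorem isSeparated_of_closed_subgroup {S : Scheme.{u}} {H G : Over S} [GrpObj H] [GrpObj G] (i : H ⟶ G) [IsMonHom i]
    [IsClosedImmersion i.left] [IsSeparated H.hom] : IsSeparated G.hom := by
  haveI h1 : IsClosedImmersion η[H].left := by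
    haveI : IsClosedImmersion (η[H].left ≫ H.hom) := by
      rw [Over.w η[H]]; exact inferInstanceAs (IsClosedImmersion (𝟙 S))
    exact IsClosedImmersion.of_comp η[H].left H.hom
  haveI : IsClosedImmersion η[G].left := by
    rw [← IsMonHom.one_hom i, Over.comp_left]; infer_instance
  let d : G ⊗ G ⟶ G := (fst G G)⁻¹ * snd G G
  have key : ∀ {T : Over S} (z : T ⟶ G ⊗ G), z ≫ d = 1 → z ≫ fst G G = z ≫ snd G G := fun z hz => by
    rw [MonObj.comp_mul, GrpObj.comp_inv, inv_mul_eq_one] at hz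
    exact hz
  have hone : ∀ {T : Over S}, toUnit T ≫ η[G] = 1 := fun {T} => Hom.one_def.symm
  have hsq : IsPullback (lift (𝟙 G) (𝟙 G)) (toUnit G) d η[G] := by
    refine ⟨⟨?_⟩, ⟨PullbackCone.isLimitAux' _ fun c => ?_⟩⟩
    · rw [hone, MonObj.comp_mul, GrpObj.comp_inv, lift_fst, lift_snd, inv_mul_cancel]
    · have hc : c.fst ≫ fst G G = c.fst ≫ snd G G := key c.fst (by
        rw [c.condition, toUnit_unique c.snd (toUnit _), hone])
      have e1 : (c.fst ≫ fst G G) ≫ lift (𝟙 G) (𝟙 G) = c.fst := by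
        rw [comp_lift, Category.comp_id]
        conv_lhs => arg 2; rw [hc]
        rw [← comp_lift, lift_fst_snd, Category.comp_id]
      have e2 : ∀ m : c.pt ⟶ G, m ≫ lift (𝟙 G) (𝟙 G) = c.fst → m = c.fst ≫ fst G G := fun m h1 => by
        rw [← h1, Category.assoc, lift_fst, Category.comp_id]
      exact ⟨c.fst ≫ fst G G, e1, toUnit_unique _ _, fun {m} h1 _ => e2 m h1⟩
  haveI : IsClosedImmersion (lift (𝟙 G) (𝟙 G)).left :=
    MorphismProperty.of_isPullback (P := @IsClosedImmersion) (hsq.map (Over.forget S)).flip ‹IsClosedImmersion η[G].left›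
  rw [isSeparated_iff]
  exact inferInstanceAs (IsClosedImmersion (lift (𝟙 G) (𝟙 G)).left)

end Groth.Agent.FixedSmooth
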