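import Groth.Agent.FixedSmooth.Core
import Groth.Agent.FixedSmooth.Descend
import Groth.Agent.WeilClosedLib.Equalizer
/-!
Transporters of homomorphisms from groups of multiplicative type are closed and smooth.
-/

set_option autoImplicit false
set_option backward.isDefEq.respectTransparency false
set_option backward.isDefEq.respectTransparency.types false
set_option linter.style.haveILetI false

universe u

open CategoryTheory CategoryTheory.Limits MonoidalCategory CartesianMonoidalCategory MonObj AlgebraicGeometry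

noncomputable section

namespace Groth.Agent.FixedSmooth

open WeilClosedLib

variable {S : Scheme.{u}} {H G : Over S} [GrpObj H] [GrpObj G]

/-- `h · g = u₂(h) g u₁(h)⁻¹`. -/
def conjAct (u₁ u₂ : H ⟶ G) : H ⊗ G ⟶ G := (fst H G ≫ u₂) * snd H G * (fst H G ≫ u₁)⁻¹

theorem lift_conjAct (u₁ u₂ : H ⟶ G) {X : Over S} (h : X ⟶ H) (g : X ⟶ G) :
    lift h g ≫ conjAct u₁ u₂ = (h ≫ u₂) * g * (h ≫ u₁)⁻¹ := by
  simp [conjAct, MonObj.comp_mul, GrpObj.comp_inv]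

theorem conjAct_act (u₁ u₂ : H ⟶ G) [IsMonHom u₁] [IsMonHom u₂] (X : Over S) (h h' : X ⟶ H) (x : X ⟶ G) :
    lift h (lift h' x ≫ conjAct u₁ u₂) ≫ conjAct u₁ u₂ = lift (h * h') x ≫ conjAct u₁ u₂ := by
  simp only [lift_conjAct, MonObj.mul_comp]
  group

theorem fixed_iff (u₁ u₂ : H ⟶ G) {X : Over S} (h : X ⟶ H) (g : X ⟶ G) :
    lift h g ≫ conjAct u₁ u₂ = g ↔ g * (h ≫ u₁) * g⁻¹ = h ≫ u₂ := by
  rw [lift_conjAct, mul_inv_eq_iff_eq_mul, mul_inv_eq_iff_eq_mul, eq_comm]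

variable [IsAffineHom G.hom] [Smooth G.hom]

/-- Over a chart where `H` is split, transporter points lift. -/
theorem exists_transporter_lift {U : Scheme.{u}} {b : U ⟶ S} {M : Type} [AddCommGroup M] (σ : Split H b M)
    (u₁ u₂ : H ⟶ G) [IsMonHom u₁] [IsMonHom u₂]
    (B : CommRingCat.{u}) (q : Spec B ⟶ U) (N : Ideal B) (hN : N ^ 2 = ⊥)
    (x₀ : Over.mk ((Spec.map (CommRingCat.ofHom (Ideal.Quotient.mk N)) ≫ q) ≫ b) ⟶ G)
    (h₀ : ∀ (X' : Over S) (s : X' ⟶ _) (h : X' ⟶ H), (s ≫ x₀) * (h ≫ u₁) * (s ≫ x₀)⁻¹ = h ≫ u₂) :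
    ∃ x : Over.mk (q ≫ b) ⟶ G,
      (∀ (X' : Over S) (s : X' ⟶ _) (h : X' ⟶ H), (s ≫ x) * (h ≫ u₁) * (s ≫ x)⁻¹ = h ≫ u₂) ∧
        tr b q (CommRingCat.ofHom (Ideal.Quotient.mk N)) ≫ x = x₀ := by
  obtain ⟨x, hx, hxx⟩ := exists_fixed_lift (conjAct u₁ u₂) (conjAct_act u₁ u₂) σ B q N hN x₀
    (fun X' s h => (fixed_iff u₁ u₂ h _).2 (h₀ X' s h))
  exact ⟨x, fun X' s h => (fixed_iff u₁ u₂ h _).1 (hx X' s h), hxx⟩

/-- The transporter of `u₁` into `u₂` is closed and smooth. -/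
theorem exists_smooth_transporter (hH : IsMultTypeLoc H) (u₁ u₂ : H ⟶ G) [IsMonHom u₁] [IsMonHom u₂] :
    ∃ (T : Over S) (j : T ⟶ G), IsClosedImmersion j.left ∧ Smooth T.hom ∧
      ∀ (X : Over S) (g : X ⟶ G), (∃ t : X ⟶ T, t ≫ j = g) ↔
        ∀ (X' : Over S) (x : X' ⟶ X) (h : X' ⟶ H), (x ≫ g) * (h ≫ u₁) * (x ≫ g)⁻¹ = h ≫ u₂ := by
  obtain ⟨E, jE, -, hsep, hlE, hE⟩ :=
    exists_immersion_equalizer (fst G H * (snd G H ≫ u₁) * (fst G H)⁻¹) (snd G H ≫ u₂)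
  haveI := hsep inferInstance
  obtain ⟨T, j, hj, hT, hl⟩ := exists_closed_forall (isEssentiallyFree_of_isMultTypeLoc H hH) jE
  haveI := hl (quasiCompact_of_isMultTypeLoc H hH) (hlE inferInstance)
  have hrep : ∀ (X : Over S) (g : X ⟶ G), (∃ t : X ⟶ T, t ≫ j = g) ↔
      ∀ (X' : Over S) (x : X' ⟶ X) (h : X' ⟶ H), (x ≫ g) * (h ≫ u₁) * (x ≫ g)⁻¹ = h ≫ u₂ := fun X g =>
    (hT X g).trans (forall₃_congr fun X' x h => by rw [hE]; simp [MonObj.comp_mul, GrpObj.comp_inv])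
  haveI : IsAffineHom T.hom := by rw [← Over.w j]; infer_instance
  haveI : LocallyOfFinitePresentation T.hom := by rw [← Over.w j]; infer_instance
  obtain ⟨S', c, hc, -, hqc, hloc⟩ := hH
  haveI := hc
  refine ⟨T, j, hj, smooth_of_locally_lifts T.hom c hqc fun s' => ?_, hrep⟩
  obtain ⟨U, hU, M, _, ⟨e⟩⟩ := hloc s'
  obtain ⟨σ⟩ := exists_split (U.ι ≫ c) M e
  refine ⟨U, hU, fun B q N hN z hz => ?_⟩
  let z₀ : Over.mk ((Spec.map (CommRingCat.ofHom (Ideal.Quotient.mk N)) ≫ q) ≫ U.ι ≫ c) ⟶ T := Over.homMk z hz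
  obtain ⟨x, hx, hxx⟩ := exists_transporter_lift σ u₁ u₂ B q N hN (z₀ ≫ j) ((hrep _ _).1 ⟨z₀, rfl⟩)
  obtain ⟨t, ht⟩ := (hrep _ x).2 hx
  refine ⟨t.left, Over.w t, ?_⟩
  rw [← cancel_mono j.left, Category.assoc]
  have := congrArg CommaMorphism.left hxx
  rw [← ht] at this
  exact this

end Groth.Agent.FixedSmooth

namespace Groth.Agent.FixedSmooth

open WeilClosedLib

variable {S : Scheme.{u}} {H G : Over S} [GrpObj H] [GrpObj G] [IsAffineHom G.hom] [Smooth G.hom]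

/-- The centraliser of a homomorphism is a closed smooth subgroup. -/
theorem exists_smooth_centralizer (hH : IsMultTypeLoc H) (u : H ⟶ G) [IsMonHom u] :
    ∃ (Z : Over S) (_ : GrpObj Z) (j : Z ⟶ G), Red.IsCentralizerOf u j ∧ IsClosedImmersion j.left ∧ Smooth Z.hom := by
  obtain ⟨Z, j, hj, hs, hrep⟩ := exists_smooth_transporter hH u u
  have key : ∀ (X : Over S) (g : X ⟶ G), (∃ z : X ⟶ Z, z ≫ j = g) ↔
      ∀ (X' : Over S) (x : X' ⟶ X) (h : X' ⟶ H), (x ≫ g) * (h ≫ u) = (h ≫ u) * (x ≫ g) := fun X g =>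
    (hrep X g).trans (forall₃_congr fun X' x h => mul_inv_eq_iff_eq_mul)
  haveI : Mono j := ⟨fun a b e => Over.OverMorphism.ext ((cancel_mono j.left).1 (congrArg CommaMorphism.left e))⟩
  obtain ⟨str, hmon⟩ := exists_grpObj_of_closed j
    ((key _ η[G]).2 fun X' x h => by
      have e : x ≫ η[G] = 1 := by rw [Hom.one_def, toUnit_unique x (toUnit _)]
      simp [e])
    (fun W a b => (key W ((a ≫ j) * (b ≫ j))).2 fun X' x h => by
      have qa := (key W (a ≫ j)).1 ⟨a, rfl⟩ X' x h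
      have qb := (key W (b ≫ j)).1 ⟨b, rfl⟩ X' x h
      rw [MonObj.comp_mul]
      exact Commute.mul_left qa qb)
    (fun W a => (key W (a ≫ j)⁻¹).2 fun X' x h => by
      have qa := (key W (a ≫ j)).1 ⟨a, rfl⟩ X' x h
      rw [GrpObj.comp_inv]
      exact Commute.inv_left qa)
  exact ⟨Z, str, j, ⟨hmon, inferInstance, key⟩, hj, hs⟩

end Groth.Agent.FixedSmooth
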